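import Cfsg.Agent.H39.StronglyEmbedded

/-!
Pair stabilisers of a strongly embedded subgroup: they are odd, transitive on the swappers of
their pair and on the involutions at each of their points, and a pair has the same stabiliser
order as the pair formed by one of its points and the point of one of its swappers.
-/

set_option autoImplicit false
set_option linter.style.haveILetI false

namespace Cfsg.Agent.Coprime.SE

open Subgroup
open Cfsg.Agent.H39

variable {G : Type*} [Group G] [Finite G] {H : Subgroup G}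

/-- The stabiliser of two cosets. -/
abbrev pair (a b : G ⧸ H) : Subgroup G := MulAction.stabilizer G a ⊓ MulAction.stabilizer G b

omit [Finite G] in
theorem mem_pair {a b : G ⧸ H} {g : G} : g ∈ pair a b ↔ g • a = a ∧ g • b = b := Iff.rfl

omit [Finite G] in
/-- An involution mapping `a` to `b` maps `b` to `a`. -/
theorem swap_symm {u : G} (hu : orderOf u = 2) {a b : G ⧸ H} (h : u • a = b) : u • b = a := by
  rw [← h, ← mul_smul, mul_self_of_orderOf_eq_two hu, one_smul]

/-- A pair stabiliser has odd order. -/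
theorem odd_pair (hH : Cfsg.IsStronglyEmbedded H) {a b : G ⧸ H} (hab : a ≠ b) :
    Odd (Nat.card (pair a b)) := by
  rw [← Nat.not_even_iff_odd, even_iff_two_dvd]
  intro h
  obtain ⟨t, ht⟩ := exists_prime_orderOf_dvd_card' 2 h
  rw [← Subgroup.orderOf_coe] at ht
  exact hab (se_fix_unique hH ht t.2.1 t.2.2)

theorem odd_orderOf_of_mem_pair (hH : Cfsg.IsStronglyEmbedded H) {a b : G ⧸ H} (hab : a ≠ b)
    {g : G} (hg : g ∈ pair a b) : Odd (orderOf g) := by
  rw [← Subgroup.orderOf_mk g hg]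
  exact (odd_pair hH hab).of_dvd_nat (orderOf_dvd_natCard _)

/-- A pair stabiliser is transitive on the swappers of its pair. -/
theorem swap_conj (hH : Cfsg.IsStronglyEmbedded H) {a b : G ⧸ H} (hab : a ≠ b) {u v : G}
    (hu : orderOf u = 2) (hv : orderOf v = 2) (hua : u • a = b) (hva : v • a = b) :
    ∃ d ∈ pair a b, d * u * d⁻¹ = v := by
  have hvu : v * u ∈ pair a b := mem_pair.mpr
    ⟨by rw [mul_smul, hua, swap_symm hv hva], by rw [mul_smul, swap_symm hu hua, hva]⟩
  obtain ⟨k, hk, -, -, hkc⟩ := exists_conj_of_odd hu hv (odd_orderOf_of_mem_pair hH hab hvu)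
  exact ⟨k, zpowers_le.mpr hvu hk, hkc⟩

/-- A pair stabiliser is transitive on the involutions at either point. -/
theorem fix_conj (hH : Cfsg.IsStronglyEmbedded H) {c a : G ⧸ H} (hca : c ≠ a) {s t : G}
    (hs : orderOf s = 2) (ht : orderOf t = 2) (hsc : s • c = c) (htc : t • c = c) :
    ∃ d ∈ pair c a, d * s * d⁻¹ = t := by
  obtain ⟨r, hr, hra⟩ : ∃ r : G, orderOf r = 2 ∧ r • a = a := by
    obtain ⟨t₀, ht₀, ht₀H⟩ := se_exists_involution hH
    induction a using QuotientGroup.induction_on with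
    | _ g => exact ⟨g * t₀ * g⁻¹, by rw [orderOf_conj, ht₀],
        se_smul_mk_eq_iff.mpr (by simpa [mul_assoc] using ht₀H)⟩
  obtain ⟨w, -, hwc, hwa, hws⟩ := se_exists_swap hH hs hr hca hsc hra
  obtain ⟨w', -, hw'c, hw'a, hw't⟩ := se_exists_swap hH ht hr hca htc hra
  refine ⟨w'⁻¹ * w, mem_pair.mpr ⟨?_, ?_⟩, ?_⟩
  · rw [mul_smul, hwc, inv_smul_eq_iff, hw'c]
  · rw [mul_smul, hwa, inv_smul_eq_iff, hw'a]
  · rw [show w'⁻¹ * w * s * (w'⁻¹ * w)⁻¹ = w'⁻¹ * (w * s * w⁻¹) * w' by group, hws, ← hw't]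
    group

omit [Finite G] in
/-- A subgroup transitive by conjugation on a set containing `u` has order the size of this set
times the order of the centraliser of `u` in it. -/
theorem card_eq_conj_mul (D : Subgroup G) (u : G) (P : G → Prop)
    (hmem : ∀ d ∈ D, P (d * u * d⁻¹)) (htr : ∀ v, P v → ∃ d ∈ D, d * u * d⁻¹ = v) :
    Nat.card D = Nat.card {v : G // P v} * Nat.card (D ⊓ centralizer {u} : Subgroup G) := by
  choose r hr hrv using fun v : {v : G // P v} => htr v.1 v.2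
  rw [← Nat.card_prod]
  have key : ∀ (v : {v : G // P v}) (c : (D ⊓ centralizer {u} : Subgroup G)),
      r v * (c : G) * u * (r v * (c : G))⁻¹ = v.1 := by
    intro v c
    have hc : (c : G) * u = u * (c : G) := mem_centralizer_singleton_iff.mp c.2.2
    rw [show r v * (c : G) * u * (r v * (c : G))⁻¹ = r v * ((c : G) * u * (c : G)⁻¹) * (r v)⁻¹ by
      group, hc, mul_inv_cancel_right, hrv]
  symm
  refine Nat.card_eq_of_bijective
    (fun p => (⟨r p.1 * (p.2 : G), mul_mem (hr p.1) p.2.2.1⟩ : D)) ⟨?_, ?_⟩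
  · rintro ⟨v, c⟩ ⟨v', c'⟩ h
    have h' : r v * (c : G) = r v' * (c' : G) := congrArg Subtype.val h
    obtain rfl : v = v' := Subtype.ext (by rw [← key v c, h', key v' c'])
    exact Prod.ext rfl (Subtype.ext (mul_left_cancel h'))
  · intro d
    let v : {v : G // P v} := ⟨(d : G) * u * (d : G)⁻¹, hmem _ d.2⟩
    have hc : (r v)⁻¹ * (d : G) ∈ centralizer {u} := by
      rw [mem_centralizer_singleton_iff]
      have h : r v * u * (r v)⁻¹ = (d : G) * u * (d : G)⁻¹ := hrv v
      calc (r v)⁻¹ * d * u = (r v)⁻¹ * ((d : G) * u * (d : G)⁻¹) * d := by group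
        _ = u * ((r v)⁻¹ * d) := by rw [← h]; group
    exact ⟨(v, ⟨(r v)⁻¹ * d, mem_inf.mpr ⟨mul_mem (inv_mem (hr v)) d.2, hc⟩⟩),
      Subtype.ext (by simp)⟩

/-- L0: if the involution `u` swaps `a` and `b` and fixes `c`, the pairs `(a, b)` and `(c, a)`
have stabilisers of the same order. -/
theorem card_pair_eq (hH : Cfsg.IsStronglyEmbedded H) {a b c : G ⧸ H} (hab : a ≠ b) {u : G}
    (hu : orderOf u = 2) (hua : u • a = b) (huc : u • c = c) :
    Nat.card (pair a b) = Nat.card (pair c a) := by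
  have hca : c ≠ a := fun h => hab (by rw [← hua, ← h, huc])
  have hub : u • b = a := swap_symm hu hua
  have hC : pair a b ⊓ centralizer {u} = pair c a ⊓ centralizer {u} := by
    ext g
    simp only [Subgroup.mem_inf, MulAction.mem_stabilizer_iff, mem_centralizer_singleton_iff]
    constructor
    · rintro ⟨⟨ha, -⟩, hg⟩
      exact ⟨⟨se_fix_unique hH hu (by rw [← mul_smul, ← hg, mul_smul, huc]) huc, ha⟩, hg⟩
    · rintro ⟨⟨-, ha⟩, hg⟩
      exact ⟨⟨ha, by rw [← hua, ← mul_smul, hg, mul_smul, ha]⟩, hg⟩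
  rw [card_eq_conj_mul (pair a b) u (fun v => orderOf v = 2 ∧ v • a = b)
      (fun d hd => ⟨by rw [orderOf_conj, hu],
        by rw [mul_smul, mul_smul, inv_smul_eq_iff.mpr hd.1.symm, hua, hd.2]⟩)
      (fun v hv => swap_conj hH hab hu hv.1 hua hv.2),
    card_eq_conj_mul (pair c a) u (fun v => orderOf v = 2 ∧ v • c = c)
      (fun d hd => ⟨by rw [orderOf_conj, hu],
        by rw [mul_smul, mul_smul, inv_smul_eq_iff.mpr hd.1.symm, huc, hd.1]⟩)
      (fun v hv => fix_conj hH hca hu hv.1 huc hv.2),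
    se_card_swap hH, se_card_fix, hC]

/-- STEP 3: if the point of every swapper of two points of `C` lies in `C`, then every involution
at a point of `C` preserves `C`. -/
theorem smul_mem_of_swap_points (hH : Cfsg.IsStronglyEmbedded H) (C : Set (G ⧸ H))
    (hC : ∀ x ∈ C, ∀ y ∈ C, x ≠ y → ∀ i : G, orderOf i = 2 → i • x = y →
      ∀ c, i • c = c → c ∈ C)
    {t : G} (ht : orderOf t = 2) {c : G ⧸ H} (hc : c ∈ C) (htc : t • c = c) {x : G ⧸ H}
    (hx : x ∈ C) : t • x ∈ C := by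
  classical
  by_cases hxc : x = c
  · rw [hxc, htc]; exact hc
  haveI : Fintype C := Fintype.ofFinite C
  choose p hp using fun (i : G) (hi : orderOf i = 2) => se_exists_fix hH hi
  let f : (Σ x : C, Σ y : {y : C // y ≠ x}, {i : G // orderOf i = 2 ∧ i • x.1 = y.1.1}) →
      Σ c : C, {i : G // orderOf i = 2 ∧ i • c.1 = c.1} × {x : C // x ≠ c} := fun q =>
    ⟨⟨p q.2.2.1 q.2.2.2.1, hC q.1.1 q.1.2 q.2.1.1.1 q.2.1.1.2
        (fun h => q.2.1.2 (Subtype.ext h.symm)) q.2.2.1 q.2.2.2.1 q.2.2.2.2 _ (hp _ _)⟩,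
      ⟨q.2.2.1, q.2.2.2.1, hp _ _⟩,
      ⟨q.1, fun h => q.2.1.2 (Subtype.ext (by
        have hfix := hp q.2.2.1 q.2.2.2.1
        have hval : q.1.1 = p q.2.2.1 q.2.2.2.1 := congrArg Subtype.val h
        rw [← hval] at hfix
        exact q.2.2.2.2.symm.trans hfix))⟩⟩
  have hf : Function.Injective f := by
    rintro ⟨x₁, ⟨y₁, hy₁⟩, ⟨i₁, hi₁, hxy₁⟩⟩ ⟨x₂, ⟨y₂, hy₂⟩, ⟨i₂, hi₂, hxy₂⟩⟩ h
    have hi : i₁ = i₂ := congrArg (fun q => q.2.1.1) h
    have hx' : x₁ = x₂ := congrArg (fun q => q.2.2.1) h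
    subst hi hx'
    obtain rfl : y₁ = y₂ := Subtype.ext (hxy₁.symm.trans hxy₂)
    rfl
  have hcard : ∀ x : C, Nat.card {y : C // y ≠ x} = Fintype.card C - 1 := fun x => by
    rw [Nat.card_eq_fintype_card, Fintype.card_subtype_compl, Fintype.card_subtype_eq]
  haveI : Fintype G := Fintype.ofFinite G
  have hbij := hf.bijective_of_nat_card_le (by
    simp only [Nat.card_sigma, Nat.card_prod, se_card_swap hH, Finset.sum_const,
      hcard, Finset.card_univ, smul_eq_mul]
    simp [mul_comm])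
  obtain ⟨⟨x', y, ⟨i, hi, hxy⟩⟩, hq⟩ := hbij.2
    ⟨⟨c, hc⟩, ⟨t, ht, htc⟩, ⟨⟨x, hx⟩, fun h => hxc (congrArg Subtype.val h)⟩⟩
  have h1 : i = t := congrArg (fun q => q.2.1.1) hq
  have h2 : x' = ⟨x, hx⟩ := congrArg (fun q => q.2.2.1) hq
  subst h1 h2
  change i • x = y.1.1 at hxy
  rw [hxy]
  exact y.1.2

end Cfsg.Agent.Coprime.SE
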