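import Cfsg.Agent.Coprime.SE.Pairs

/-!
The SINGLETON lemma: a subgroup normalised by every swapper of a pair does not fix exactly one
point, so if it fixes a point it has odd order.  The subgroups `atPoint N p ⊔ atPoint N r`, for a
subgroup `N` normalised by the point stabiliser, are examples.
-/

set_option autoImplicit false
set_option linter.style.haveILetI false

namespace Cfsg.Agent.Coprime.SE

open Subgroup
open Cfsg.Agent.H39

variable {G : Type*} [Group G] {H : Subgroup G}

/-- The copy of a subgroup of the point stabiliser at the point `x`. -/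
noncomputable def atPoint (N : Subgroup G) (x : G ⧸ H) : Subgroup G :=
  N.map (MulAut.conj (Quotient.out x)).toMonoidHom

theorem map_conj_atPoint {N : Subgroup G} (hN : H ≤ normalizer (N : Set G)) (g : G) (x : G ⧸ H) :
    (atPoint N x).map (MulAut.conj g).toMonoidHom = atPoint N (g • x) := by
  have hout : ∀ y : G ⧸ H, (QuotientGroup.mk (Quotient.out y) : G ⧸ H) = y := fun y =>
    Quotient.out_eq y
  have hh : (g * Quotient.out x)⁻¹ * Quotient.out (g • x) ∈ H := QuotientGroup.eq.mp (by
    rw [hout, show (QuotientGroup.mk (g * Quotient.out x) : G ⧸ H) =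
      g • (QuotientGroup.mk (Quotient.out x) : G ⧸ H) from rfl, hout])
  set h := (g * Quotient.out x)⁻¹ * Quotient.out (g • x) with hdef
  have hNh : N.map (MulAut.conj h).toMonoidHom = N := by
    ext n
    rw [Subgroup.mem_map]
    constructor
    · rintro ⟨m, hm, rfl⟩
      simpa using (Subgroup.mem_normalizer_iff.mp (hN hh) m).mp hm
    · intro hn
      refine ⟨h⁻¹ * n * h, ?_, by simp [mul_assoc]⟩
      simpa using (Subgroup.mem_normalizer_iff.mp (inv_mem (hN hh)) n).mp hn
  have houtg : Quotient.out (g • x) = g * Quotient.out x * h := by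
    rw [hdef, mul_inv_cancel_left]
  unfold atPoint
  rw [houtg]
  conv_lhs => rw [← hNh]
  rw [Subgroup.map_map, Subgroup.map_map]
  refine congrArg (fun f => Subgroup.map f N) (MonoidHom.ext fun n => ?_)
  simp [mul_assoc]

theorem atPoint_le_stabilizer {N : Subgroup G} (hNH : N ≤ H) (x : G ⧸ H) :
    atPoint N x ≤ MulAction.stabilizer G x := by
  rintro _ ⟨n, hn, rfl⟩
  rw [MulAction.mem_stabilizer_iff]
  conv_lhs => rw [show x = (QuotientGroup.mk (Quotient.out x) : G ⧸ H) from (Quotient.out_eq x).symm]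
  conv_rhs => rw [show x = (QuotientGroup.mk (Quotient.out x) : G ⧸ H) from (Quotient.out_eq x).symm]
  rw [MulAction.Quotient.smul_mk, QuotientGroup.eq, smul_eq_mul]
  simpa [mul_assoc] using inv_mem (hNH hn)

/-- An element swapping `p` and `r` normalises `atPoint N p ⊔ atPoint N r`. -/
theorem swap_mem_normalizer_atPoint {N : Subgroup G} (hN : H ≤ normalizer (N : Set G)) {g : G}
    {p r : G ⧸ H} (hgp : g • p = r) (hgr : g • r = p) :
    g ∈ normalizer ((atPoint N p ⊔ atPoint N r : Subgroup G) : Set G) := by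
  have h : (atPoint N p ⊔ atPoint N r).map (MulAut.conj g).toMonoidHom =
      atPoint N p ⊔ atPoint N r := by
    rw [Subgroup.map_sup, map_conj_atPoint hN, map_conj_atPoint hN, hgp, hgr, sup_comm]
  rw [Subgroup.mem_normalizer_iff]
  intro s
  conv_rhs => rw [← h]
  exact (Subgroup.mem_map_iff_mem (f := (MulAut.conj g).toMonoidHom)
    (MulAut.conj g).injective).symm

variable [Finite G]

/-- The 2-rank is at least two. -/
def RankTwo (G : Type*) [Group G] : Prop :=
  ∃ t u : G, orderOf t = 2 ∧ orderOf u = 2 ∧ t ≠ u ∧ Commute t u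

/-- In 2-rank at least two every point is fixed by two commuting involutions. -/
theorem exists_commute_fix (hH : Cfsg.IsStronglyEmbedded H) (h2 : RankTwo G) (e : G ⧸ H) :
    ∃ t u : G, orderOf t = 2 ∧ orderOf u = 2 ∧ t ≠ u ∧ Commute t u ∧ t • e = e ∧ u • e = e := by
  obtain ⟨t, u, ht, hu, htu, hc⟩ := h2
  obtain ⟨x, hx⟩ := se_exists_fix hH ht
  have hux : u • x = x := se_fix_unique hH ht (by rw [← mul_smul, hc.eq, mul_smul, hx]) hx
  obtain ⟨g, hg⟩ := MulAction.exists_smul_eq G x e
  have hfix : ∀ v : G, v • x = x → (g * v * g⁻¹) • e = e := fun v hv => by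
    rw [← hg, mul_smul, mul_smul, inv_smul_smul, hv]
  exact ⟨g * t * g⁻¹, g * u * g⁻¹, by rw [orderOf_conj, ht], by rw [orderOf_conj, hu],
    fun h => htu (mul_left_cancel (mul_right_cancel h)), by
      rw [Commute, SemiconjBy, ← mul_inv_eq_iff_eq_mul, mul_inv_rev, mul_inv_rev, inv_inv]
      calc g * t * g⁻¹ * (g * u * g⁻¹) * (g * (t⁻¹ * g⁻¹))
          = g * (t * u) * t⁻¹ * g⁻¹ := by group
        _ = g * u * g⁻¹ := by rw [hc.eq]; group,
    hfix t hx, hfix u hux⟩

/-- SINGLETON: a subgroup normalised by every swapper of `(p, r)` does not fix exactly one point. -/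
theorem exists_ne_fixed (hH : Cfsg.IsStronglyEmbedded H) (h2 : RankTwo G) {p r : G ⧸ H}
    (hpr : p ≠ r) {L : Subgroup G}
    (hL : ∀ i : G, orderOf i = 2 → i • p = r → i ∈ normalizer (L : Set G)) {e : G ⧸ H}
    (he : ∀ g ∈ L, g • e = e) : ∃ e', e' ≠ e ∧ ∀ g ∈ L, g • e' = e' := by
  by_contra! h
  have hswap : ∀ i : G, orderOf i = 2 ∧ i • p = r → orderOf i = 2 ∧ i • e = e := by
    rintro i ⟨hi, hip⟩
    refine ⟨hi, ?_⟩
    by_contra hne
    obtain ⟨g, hg, hge⟩ := h (i • e) hne
    have hmem : i⁻¹ * g * i ∈ L := by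
      simpa using (Subgroup.mem_normalizer_iff.mp (inv_mem (hL i hi hip)) g).mp hg
    have h' := he _ hmem
    rw [mul_smul, mul_smul, inv_smul_eq_iff] at h'
    exact hge h'
  let f : {i : G // orderOf i = 2 ∧ i • p = r} → {i : G // orderOf i = 2 ∧ i • e = e} :=
    fun i => ⟨i.1, hswap i.1 i.2⟩
  have hf : Function.Injective f := fun i j hij => Subtype.ext (Subtype.ext_iff.mp hij :)
  have hsurj := (hf.bijective_of_nat_card_le
    (le_of_eq ((se_card_fix e).trans (se_card_swap hH p r).symm))).2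
  have hback : ∀ v : G, orderOf v = 2 → v • e = e → v • p = r ∧ v • r = p := fun v hv hve => by
    obtain ⟨i, hi⟩ := hsurj ⟨v, hv, hve⟩
    obtain rfl : i.1 = v := congrArg Subtype.val hi
    exact ⟨i.2.2, swap_symm hv i.2.2⟩
  obtain ⟨t, u, ht, hu, htu, hc, hte, hue⟩ := exists_commute_fix hH h2 e
  have htu2 : orderOf (t * u) = 2 := orderOf_eq_two_of_mul_self
    (by rw [mul_assoc, ← mul_assoc u, ← hc.eq, mul_assoc, mul_self_of_orderOf_eq_two hu, mul_one,
      mul_self_of_orderOf_eq_two ht]) fun h1 => htu (by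
      rw [eq_inv_of_mul_eq_one_left h1, inv_eq_of_orderOf_eq_two hu])
  refine hpr ?_
  rw [← (hback _ htu2 (by rw [mul_smul, hue, hte])).1, mul_smul, (hback u hu hue).1,
    (hback t ht hte).2]

/-- A subgroup fixing a point and normalised by every swapper of a pair has odd order. -/
theorem odd_card_of_fixed (hH : Cfsg.IsStronglyEmbedded H) (h2 : RankTwo G) {p r : G ⧸ H}
    (hpr : p ≠ r) {L : Subgroup G}
    (hL : ∀ i : G, orderOf i = 2 → i • p = r → i ∈ normalizer (L : Set G)) {e : G ⧸ H}
    (he : ∀ g ∈ L, g • e = e) : Odd (Nat.card L) := by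
  obtain ⟨e', hne, he'⟩ := exists_ne_fixed hH h2 hpr hL he
  exact (odd_pair hH hne.symm).of_dvd_nat
    (card_dvd_of_le fun g hg => mem_pair.mpr ⟨he g hg, he' g hg⟩)

/-- The corollary for the two copies of a subgroup normalised by the point stabiliser. -/
theorem odd_card_atPoint_sup (hH : Cfsg.IsStronglyEmbedded H) (h2 : RankTwo G) {N : Subgroup G}
    (hN : H ≤ normalizer (N : Set G)) {p r : G ⧸ H} (hpr : p ≠ r) {e : G ⧸ H}
    (he : ∀ g ∈ atPoint N p ⊔ atPoint N r, g • e = e) :
    Odd (Nat.card (atPoint N p ⊔ atPoint N r : Subgroup G)) :=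
  odd_card_of_fixed hH h2 hpr
    (fun _ hi hip => swap_mem_normalizer_atPoint hN hip (swap_symm hi hip)) he

end Cfsg.Agent.Coprime.SE
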