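import Cfsg.Agent.Coprime.SE.Good
import Cfsg.Agent.Coprime.SE.Singleton
import Cfsg.Agent.H72.SE.OddFix
import Cfsg.Agent.H29.Bender.Good

/-!
(GOOD) with an odd prime dividing the number of involutions at a point forces 2-rank two.
-/

set_option autoImplicit false
set_option linter.style.haveILetI false

namespace Cfsg.Agent.Coprime.SE

open Subgroup
open Cfsg.Agent.H39

universe u

variable {G : Type u} [Group G] [Finite G] {H : Subgroup G}

/-- Without commuting involutions the odd core is transitive on the points. -/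
theorem exists_oddCore_smul (hH : Cfsg.IsStronglyEmbedded H)
    (h1 : ∀ s t : G, orderOf s = 2 → orderOf t = 2 → Commute s t → s = t) (x y : G ⧸ H) :
    ∃ l ∈ Cfsg.oddCore G, l • x = y := by
  obtain ⟨t₀, ht₀, ht₀H⟩ := se_exists_involution hH
  obtain ⟨g, hg⟩ := MulAction.exists_smul_eq G (QuotientGroup.mk 1 : G ⧸ H) x
  obtain ⟨g', hg'⟩ := MulAction.exists_smul_eq G (QuotientGroup.mk 1 : G ⧸ H) y
  set t := g * t₀ * g⁻¹ with htdef
  set v := g' * t₀ * g'⁻¹ with hvdef
  have ht : orderOf t = 2 := by rw [htdef, orderOf_conj, ht₀]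
  have hv : orderOf v = 2 := by rw [hvdef, orderOf_conj, ht₀]
  have htx : t • x = x := by
    rw [htdef, ← hg, mul_smul, mul_smul, inv_smul_smul, base_smul_iff.mpr ht₀H]
  have hvy : v • y = y := by
    rw [hvdef, ← hg', mul_smul, mul_smul, inv_smul_smul, base_smul_iff.mpr ht₀H]
  obtain ⟨P, hP⟩ := (IsPGroup.of_card (G := zpowers t) (n := 1)
    (by rw [Nat.card_zpowers, ht, pow_one])).exists_le_sylow
  have htP : t ∈ P := hP (mem_zpowers _)
  haveI : Nontrivial (P : Subgroup G) := ⟨⟨⟨t, htP⟩, 1, fun h => by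
    have h' : t = 1 := congrArg Subtype.val h
    rw [h', orderOf_one] at ht
    exact absurd ht (by norm_num)⟩⟩
  haveI := P.2.center_nontrivial
  obtain ⟨z, hz⟩ := exists_prime_orderOf_dvd_card' (G := center (P : Subgroup G)) 2 (by
    obtain ⟨n, hn, hcard⟩ := (IsPGroup.nontrivial_iff_card (P.2.to_subgroup (center _))).mp
      inferInstance
    rw [hcard]
    exact dvd_pow_self 2 hn.ne')
  have hPuniq : ∀ u : G, u ∈ P → orderOf u = 2 → u = ((z : (P : Subgroup G)) : G) :=
    fun u hu hu2 => h1 _ _ hu2 (by rw [Subgroup.orderOf_coe, Subgroup.orderOf_coe, hz])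
      (congrArg Subtype.val (mem_center_iff.mp z.2 ⟨u, hu⟩))
  have hZ := Cores.glaubermanZStar P ht htP fun g hg =>
    (hPuniq _ hg (by rw [orderOf_conj, ht])).trans (hPuniq _ htP ht).symm
  obtain ⟨k, hk⟩ := isConj_iff.mp (se_involutions_conj hH ht hv)
  have hvt : v * t ∈ Cfsg.oddCore G := by
    have h : v * t = (t * k * t⁻¹ * k⁻¹)⁻¹ := by
      rw [← hk]
      calc k * t * k⁻¹ * t = k * t * k⁻¹ * t⁻¹ := by rw [inv_eq_of_orderOf_eq_two ht]
        _ = _ := by group
    rw [h]
    exact inv_mem (hZ k)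
  have hodd : Odd (orderOf (v * t)) := by
    rw [← Subgroup.orderOf_mk (v * t) hvt]
    exact (Cores.odd_card_oddCore (G := G)).of_dvd_nat (orderOf_dvd_natCard _)
  obtain ⟨l, hl, -, -, hlc⟩ := exists_conj_of_odd ht hv hodd
  refine ⟨l, zpowers_le.mpr hvt hl, se_fix_unique hH hv ?_ hvy⟩
  rw [← hlc, mul_smul, mul_smul, inv_smul_smul, htx]

/-- (GOOD) with an odd prime dividing the number of involutions at a point gives two commuting
involutions. -/
theorem rankTwo_of_good (hH : Cfsg.IsStronglyEmbedded H) (hG : Good H) {q : ℕ} [Fact q.Prime]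
    (hq : Odd q) (hdvd : q ∣ Nat.card {t : G // orderOf t = 2 ∧ t ∈ H}) : RankTwo G := by
  by_contra hrank
  have h1 : ∀ s t : G, orderOf s = 2 → orderOf t = 2 → Commute s t → s = t := by
    intro s t hs ht hc
    by_contra hne
    exact hrank ⟨s, t, hs, ht, hne, hc⟩
  obtain ⟨y, hy⟩ : ∃ y : G ⧸ H, (QuotientGroup.mk 1 : G ⧸ H) ≠ y := by
    obtain ⟨g, hg⟩ : ∃ g, g ∉ H := by
      by_contra h
      push Not at h
      exact hH.1 (eq_top_iff.mpr fun x _ => h x)
    exact ⟨QuotientGroup.mk g, fun h => hg (by simpa using QuotientGroup.eq.mp h)⟩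
  obtain ⟨R, hR, -⟩ := exists_pairSylow (q := q) (H := H) (a := QuotientGroup.mk 1) (b := y)
    (P := ⊥) bot_le IsPGroup.of_bot
  obtain ⟨z, hzx, hzy, hz⟩ := H72.SE.not_two_fixed (r := q) (Nat.card (G ⧸ H)) le_rfl
    (Cfsg.oddCore G) R Cores.odd_card_oddCore
    (le_top.trans (normalizer_eq_top_iff.mpr inferInstance).ge) hR.isPGroup
    (exists_oddCore_smul hH h1) _ y hy (fun s hs => (hR.le hs).1) (fun s hs => (hR.le hs).2)
  exact (fixed_eq_of_aq hH (aq_of_good hH hG hdvd) hq hR hy hz).elim hzx hzy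

end Cfsg.Agent.Coprime.SE
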