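import Cfsg.Agent.Coprime.SE.Pairs

/-!
The identity (ID+): for a point `c` of a swapper of `(a, b)`, the points of the swappers of `(a, b)`
and the images of `a` under the involutions at `c` are equally numerous; both numbers are the index
of the stabiliser of `a, b, c` in the two pair stabilisers.
-/

set_option autoImplicit false
set_option linter.style.haveILetI false

namespace Cfsg.Agent.Coprime.SE

open Subgroup
open Cfsg.Agent.H39

variable {G : Type*} [Group G] {H : Subgroup G}

/-- The points of the involutions swapping `a` and `b` (the set `T_ab`). -/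
def swapPoints (a b : G ⧸ H) : Set (G ⧸ H) :=
  {c | ∃ u : G, orderOf u = 2 ∧ u • a = b ∧ u • c = c}

/-- The images of `a` under the involutions at `c` (the set `I_c a`). -/
def invImages (c a : G ⧸ H) : Set (G ⧸ H) :=
  {x | ∃ u : G, orderOf u = 2 ∧ u • c = c ∧ u • a = x}

theorem relIndex_mul_card {M : Type*} [Group M] {K D : Subgroup M} (h : K ≤ D) :
    K.relIndex D * Nat.card K = Nat.card D := by
  rw [← Subgroup.index_mul_card (K.subgroupOf D),
    Nat.card_congr (Subgroup.subgroupOfEquivOfLe h).toEquiv]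
  rfl

variable [Finite G]

theorem swapPoints_eq_orbit (hH : Cfsg.IsStronglyEmbedded H) {a b c : G ⧸ H} (hab : a ≠ b) {u : G}
    (hu : orderOf u = 2) (hua : u • a = b) (huc : u • c = c) :
    swapPoints a b = MulAction.orbit (pair a b) c := by
  ext x
  constructor
  · rintro ⟨v, hv, hva, hvx⟩
    obtain ⟨d, hd, hdu⟩ := swap_conj hH hab hu hv hua hva
    refine ⟨⟨d, hd⟩, ?_⟩
    change d • c = x
    refine se_fix_unique hH hv ?_ hvx
    rw [← hdu, mul_smul, mul_smul, inv_smul_smul, huc]
  · rintro ⟨⟨d, hd⟩, rfl⟩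
    refine ⟨d * u * d⁻¹, by rw [orderOf_conj, hu], ?_, ?_⟩
    · rw [mul_smul, mul_smul, inv_smul_eq_iff.mpr hd.1.symm, hua, hd.2]
    · change (d * u * d⁻¹) • d • c = d • c
      rw [mul_smul, mul_smul, inv_smul_smul, huc]

theorem invImages_eq_orbit (hH : Cfsg.IsStronglyEmbedded H) {a b c : G ⧸ H} (hca : c ≠ a) {u : G}
    (hu : orderOf u = 2) (hua : u • a = b) (huc : u • c = c) :
    invImages c a = MulAction.orbit (pair c a) b := by
  ext x
  constructor
  · rintro ⟨v, hv, hvc, hva⟩
    obtain ⟨d, hd, hdu⟩ := fix_conj hH hca hu hv huc hvc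
    refine ⟨⟨d, hd⟩, ?_⟩
    change d • b = x
    rw [← hva, ← hdu, mul_smul, mul_smul, inv_smul_eq_iff.mpr hd.2.symm, hua]
  · rintro ⟨⟨d, hd⟩, rfl⟩
    refine ⟨d * u * d⁻¹, by rw [orderOf_conj, hu], ?_, ?_⟩
    · rw [mul_smul, mul_smul, inv_smul_eq_iff.mpr hd.1.symm, huc, hd.1]
    · change (d * u * d⁻¹) • a = d • b
      rw [mul_smul, mul_smul, inv_smul_eq_iff.mpr hd.2.symm, hua]

omit [Finite G] in
theorem card_orbit_mul_card_inf (D : Subgroup G) (x : G ⧸ H) :
    Nat.card (MulAction.orbit D x) * Nat.card (D ⊓ MulAction.stabilizer G x : Subgroup G) =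
      Nat.card D := by
  rw [Nat.card_coe_set_eq, ← MulAction.index_stabilizer]
  have h : Nat.card (MulAction.stabilizer D x) =
      Nat.card (D ⊓ MulAction.stabilizer G x : Subgroup G) := by
    refine Nat.card_congr
      { toFun := fun d => ⟨d.1.1, d.1.2, d.2⟩
        invFun := fun d => ⟨⟨d.1, d.2.1⟩, d.2.2⟩
        left_inv := fun d => rfl
        right_inv := fun d => rfl }
  rw [← h]
  exact Subgroup.index_mul_card _

/-- `|T_ab| [D_abc] = |D_ab|`. -/
theorem card_swapPoints_mul (hH : Cfsg.IsStronglyEmbedded H) {a b c : G ⧸ H} (hab : a ≠ b)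
    (hc : c ∈ swapPoints a b) :
    Nat.card (swapPoints a b) * Nat.card (pair a b ⊓ MulAction.stabilizer G c : Subgroup G) =
      Nat.card (pair a b) := by
  obtain ⟨u, hu, hua, huc⟩ := hc
  rw [swapPoints_eq_orbit hH hab hu hua huc, card_orbit_mul_card_inf]

/-- (ID+): `d_ab = |I_c a|` for every point `c` of a swapper of `(a, b)`. -/
theorem card_swapPoints_eq (hH : Cfsg.IsStronglyEmbedded H) {a b c : G ⧸ H} (hab : a ≠ b)
    (hc : c ∈ swapPoints a b) : Nat.card (swapPoints a b) = Nat.card (invImages c a) := by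
  obtain ⟨u, hu, hua, huc⟩ := hc
  have hca : c ≠ a := fun h => hab (by rw [← hua, ← h, huc])
  have h1 := card_swapPoints_mul hH hab ⟨u, hu, hua, huc⟩
  have h2 : Nat.card (invImages c a) *
      Nat.card (pair c a ⊓ MulAction.stabilizer G b : Subgroup G) = Nat.card (pair c a) := by
    rw [invImages_eq_orbit hH hca hu hua huc, card_orbit_mul_card_inf]
  rw [← card_pair_eq hH hab hu hua huc,
    show (pair c a ⊓ MulAction.stabilizer G b : Subgroup G) =
      pair a b ⊓ MulAction.stabilizer G c by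
      simp only [pair]; ac_rfl] at h2
  exact Nat.eq_of_mul_eq_mul_right Nat.card_pos (h1.trans h2.symm)

/-- If `q` divides `d_ab`, a Sylow `q`-subgroup of `D_ab` fixes the point of no swapper of `(a, b)`:
the pair is free for `q`. -/
theorem not_fixed_of_dvd (hH : Cfsg.IsStronglyEmbedded H) {a b c : G ⧸ H} (hab : a ≠ b)
    {q : ℕ} (hq : q.Prime) (hdvd : q ∣ Nat.card (swapPoints a b)) {S : Subgroup G}
    (hS : S ≤ pair a b) (hcard : Nat.card S = ordProj[q] (Nat.card (pair a b)))
    (hc : c ∈ swapPoints a b) : ¬ ∀ s ∈ S, s • c = c := fun h => by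
  have hle : S ≤ pair a b ⊓ MulAction.stabilizer G c := le_inf hS h
  have hmul := card_swapPoints_mul hH hab hc
  have hdvd' : q * Nat.card S ∣ Nat.card (pair a b) := by
    rw [← hmul]; exact mul_dvd_mul hdvd (card_dvd_of_le hle)
  rw [hcard, ← pow_succ'] at hdvd'
  have hpos : Nat.card (pair a b) ≠ 0 := Nat.card_pos.ne'
  exact Nat.pow_succ_factorization_not_dvd hpos hq hdvd'

/-- 0.2 of case (i): if the involutions at `c` commute modulo the normal subgroup `W` of the
stabiliser of `c`, the number of their images modulo `W` divides `d_ab` whenever `c` is the point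
of a swapper of `(a, b)`. -/
theorem card_image_dvd_swapPoints (hH : Cfsg.IsStronglyEmbedded H) {a b c : G ⧸ H} (hab : a ≠ b)
    (hc : c ∈ swapPoints a b) (W : Subgroup (MulAction.stabilizer G c)) [W.Normal]
    (hcomm : ∀ u v : MulAction.stabilizer G c, orderOf u = 2 → orderOf v = 2 →
      Commute (QuotientGroup.mk' W u) (QuotientGroup.mk' W v)) :
    Nat.card (QuotientGroup.mk' W '' {v : MulAction.stabilizer G c | orderOf v = 2}) ∣
      Nat.card (swapPoints a b) := by
  have hmul := card_swapPoints_mul hH hab hc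
  obtain ⟨u, hu, hua, huc⟩ := hc
  have hca : c ≠ a := fun h => hab (by rw [← hua, ← h, huc])
  have hub : u • b = a := swap_symm hu hua
  let uS : MulAction.stabilizer G c := ⟨u, huc⟩
  have huS : orderOf uS = 2 := by rw [← Subgroup.orderOf_coe]; exact hu
  set φ := QuotientGroup.mk' W
  set D := (pair c a).subgroupOf (MulAction.stabilizer G c) with hD
  set K := (pair a b ⊓ MulAction.stabilizer G c : Subgroup G).subgroupOf (MulAction.stabilizer G c)
    with hK
  set C := centralizer ({φ uS} : Set (MulAction.stabilizer G c ⧸ W)) with hC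
  have hKD : K ≤ D := fun d hd => ⟨d.2, hd.1.1⟩
  have hKC : K ≤ C.comap φ := by
    intro d hd
    have h1 : u⁻¹ = u := inv_eq_of_orderOf_eq_two hu
    have hconj : uS * d * uS⁻¹ ∈ K := by
      refine ⟨⟨?_, ?_⟩, (uS * d * uS⁻¹).2⟩
      · change (u * (d : G) * u⁻¹) • a = a
        rw [h1, mul_smul, mul_smul, hua, show (d : G) • b = b from hd.1.2, hub]
      · change (u * (d : G) * u⁻¹) • b = b
        rw [h1, mul_smul, mul_smul, hub, show (d : G) • a = a from hd.1.1, hua]
    have hy : d⁻¹ * (uS * d * uS⁻¹) ∈ K := mul_mem (inv_mem hd) hconj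
    have hyodd : Odd (orderOf (d⁻¹ * (uS * d * uS⁻¹))) := by
      rw [← Subgroup.orderOf_coe]
      exact odd_orderOf_of_mem_pair hH hab hy.1
    have hz : orderOf (d⁻¹ * uS * d) = 2 := by
      have := orderOf_conj d⁻¹ uS
      rw [inv_inv] at this
      rw [this, huS]
    have hc' := hcomm _ _ hz huS
    have hsq : φ (d⁻¹ * (uS * d * uS⁻¹)) ^ 2 = 1 := by
      rw [show d⁻¹ * (uS * d * uS⁻¹) = d⁻¹ * uS * d * uS⁻¹ by group,
        inv_eq_of_orderOf_eq_two huS, map_mul, hc'.mul_pow, ← map_pow, ← map_pow,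
        ← hz, pow_orderOf_eq_one, hz, ← huS, pow_orderOf_eq_one, map_one, mul_one]
    have hone : φ (d⁻¹ * (uS * d * uS⁻¹)) = 1 := orderOf_eq_one_iff.mp
      (Nat.eq_one_of_dvd_coprimes hyodd.coprime_two_left (orderOf_dvd_of_pow_eq_one hsq)
        (orderOf_map_dvd φ _))
    rw [map_mul, map_mul, map_mul, map_inv, map_inv, inv_mul_eq_one, eq_mul_inv_iff_mul_eq] at hone
    rw [Subgroup.mem_comap, hC, mem_centralizer_singleton_iff]
    exact hone
  have h1 : K.relIndex D * Nat.card K = Nat.card D := Cfsg.Agent.Coprime.SE.relIndex_mul_card hKD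
  have hcD : Nat.card D = Nat.card (pair c a) :=
    Nat.card_congr (Subgroup.subgroupOfEquivOfLe inf_le_left).toEquiv
  have hcK : Nat.card K = Nat.card (pair a b ⊓ MulAction.stabilizer G c : Subgroup G) :=
    Nat.card_congr (Subgroup.subgroupOfEquivOfLe inf_le_right).toEquiv
  have hd : Nat.card (swapPoints a b) = K.relIndex D :=
    Nat.eq_of_mul_eq_mul_right (m := Nat.card K) Nat.card_pos (by
      rw [h1, hcD, hcK, hmul, card_pair_eq hH hab hu hua huc])
  have hP : Nat.card (D.map φ) =
      Nat.card {z // ∃ v : MulAction.stabilizer G c, orderOf v = 2 ∧ φ v = z} *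
        Nat.card (D.map φ ⊓ C : Subgroup _) := by
    refine card_eq_conj_mul (D.map φ) (φ uS) _ ?_ ?_
    · rintro _ ⟨d, -, rfl⟩
      exact ⟨d * uS * d⁻¹, by rw [orderOf_conj, huS], by simp⟩
    · rintro _ ⟨v, hv, rfl⟩
      obtain ⟨d, hd, hdu⟩ := fix_conj hH hca hu (s := u) (t := (v : G))
        (by rw [Subgroup.orderOf_coe]; exact hv) huc v.2
      refine ⟨_, ⟨⟨d, hd.1⟩, hd, rfl⟩, ?_⟩
      rw [← map_inv, ← map_mul, ← map_mul]
      exact congrArg φ (Subtype.ext hdu)
  have hcount : C.relIndex (D.map φ) =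
      Nat.card {z // ∃ v : MulAction.stabilizer G c, orderOf v = 2 ∧ φ v = z} := by
    refine Nat.eq_of_mul_eq_mul_right (m := Nat.card (D.map φ ⊓ C : Subgroup _)) Nat.card_pos ?_
    rw [← hP, ← Subgroup.inf_relIndex_left, relIndex_mul_card inf_le_left]
  have hset : Nat.card (φ '' {v : MulAction.stabilizer G c | orderOf v = 2}) =
      Nat.card {z // ∃ v : MulAction.stabilizer G c, orderOf v = 2 ∧ φ v = z} :=
    Nat.card_congr (Equiv.setCongr rfl)
  rw [hset, ← hcount, hd, ← Subgroup.relIndex_comap]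
  exact Subgroup.relIndex_dvd_of_le_left D hKC

end Cfsg.Agent.Coprime.SE
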