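import Cfsg.Agent.Coprime.SE.TheoremA
import Cfsg.Agent.Coprime.SE.Triple

/-!
Case (i) of Bender's transitivity lemma: if the involutions of `H` commute modulo a normal subgroup
and an odd prime divides the number of their images, then `(A_q)` holds, so `H` is transitive on
the other cosets.
-/

set_option autoImplicit false
set_option linter.style.haveILetI false

namespace Cfsg.Agent.Coprime.SE

open Subgroup
open Cfsg.Agent.H39

variable {G : Type*} [Group G] {H : Subgroup G}

theorem base_smul_iff {g : G} :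
    g • (QuotientGroup.mk 1 : G ⧸ H) = QuotientGroup.mk 1 ↔ g ∈ H := by
  rw [MulAction.Quotient.smul_mk, QuotientGroup.eq, smul_eq_mul, mul_one, mul_one, inv_mem_iff]

theorem map_conj_pair (g : G) (a b : G ⧸ H) :
    (pair a b).map (MulAut.conj g).toMonoidHom = pair (g • a) (g • b) := by
  ext x
  rw [Subgroup.mem_map_equiv]
  simp only [pair, mem_inf, MulAction.mem_stabilizer_iff, MulAut.conj_symm_apply, mul_smul,
    inv_smul_eq_iff]

theorem IsPairSylow.map_conj {q : ℕ} {T : Subgroup G} {a b : G ⧸ H} (hT : IsPairSylow q T a b)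
    (g : G) : IsPairSylow q (T.map (MulAut.conj g).toMonoidHom) (g • a) (g • b) := by
  refine ⟨map_conj_pair g a b ▸ Subgroup.map_mono hT.le, ?_⟩
  rw [← map_conj_pair g a b, card_map_of_injective (MulAut.conj g).injective,
    card_map_of_injective (MulAut.conj g).injective, hT.card]

/-- `(A_q)` need only be checked at the base point. -/
theorem aq_of_base {q : ℕ}
    (h : ∀ u ∈ H, orderOf u = 2 → ∀ Y : Subgroup G, IsPGroup q Y → Y ≤ H →
      u ∈ normalizer (Y : Set G) → ∀ z : G ⧸ H, QuotientGroup.mk 1 ≠ z → ∀ T : Subgroup G,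
        IsPairSylow q T (QuotientGroup.mk 1) z → ¬ T ≤ Y) : Aq q H := by
  intro u hu e hue Y hY hYe huY _ z hez T hT hTY
  obtain ⟨g, hg⟩ := MulAction.exists_smul_eq G e (QuotientGroup.mk 1 : G ⧸ H)
  refine h (g * u * g⁻¹) (base_smul_iff.mp ?_) (by rw [orderOf_conj, hu])
    (Y.map (MulAut.conj g).toMonoidHom) (hY.map _) ?_ ?_ (g • z)
    (fun h' => hez (MulAction.injective g (hg.trans h'))) (T.map (MulAut.conj g).toMonoidHom)
    (hg ▸ hT.map_conj g) (Subgroup.map_mono hTY)
  · rw [← hg, mul_smul, mul_smul, inv_smul_smul, hue]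
  · rintro _ ⟨y, hy, rfl⟩
    refine base_smul_iff.mp ?_
    change (g * y * g⁻¹) • (QuotientGroup.mk 1 : G ⧸ H) = _
    rw [← hg, mul_smul, mul_smul, inv_smul_smul, hYe y hy]
  · exact (le_normalizer_map (MulAut.conj g).toMonoidHom) ⟨u, huY, rfl⟩

/-- Case (i): involutions commuting modulo `W` and `q` dividing the number of their images. -/
theorem aq_of_commute_mod [Finite G] (hH : Cfsg.IsStronglyEmbedded H) {q : ℕ} [Fact q.Prime]
    (hq : Odd q) (W : Subgroup H) [W.Normal]
    (hcomm : ∀ u v : H, orderOf u = 2 → orderOf v = 2 →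
      Commute (QuotientGroup.mk' W u) (QuotientGroup.mk' W v))
    (hdvd : q ∣ Nat.card (QuotientGroup.mk' W '' {v : H | orderOf v = 2})) : Aq q H := by
  refine aq_of_base fun u huH hu Y hY hYH huY z hz T hT hTY => ?_
  let uH : H := ⟨u, huH⟩
  have huH2 : orderOf uH = 2 := by rw [← Subgroup.orderOf_coe]; exact hu
  set φ := QuotientGroup.mk' W
  set C := centralizer ({φ uH} : Set (H ⧸ W)) with hC
  set D := (pair (QuotientGroup.mk 1) z).subgroupOf H with hD
  have hDle : pair (QuotientGroup.mk 1 : G ⧸ H) z ≤ H := fun d hd => base_smul_iff.mp hd.1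
  have hYC : Y.subgroupOf H ≤ C.comap φ := by
    intro d hd
    have hdY : (d : G) ∈ Y := hd
    have hdG : u * (d : G) * u⁻¹ ∈ Y := (Subgroup.mem_normalizer_iff.mp huY _).mp hdY
    have hyodd : Odd (orderOf (d⁻¹ * (uH * d * uH⁻¹))) := by
      rw [← Subgroup.orderOf_coe]
      exact odd_orderOf_of_isPGroup hq hY (mul_mem (inv_mem hdY) hdG)
    have hz' : orderOf (d⁻¹ * uH * d) = 2 := by
      have := orderOf_conj d⁻¹ uH
      rw [inv_inv] at this
      rw [this, huH2]
    have hc' := hcomm _ _ hz' huH2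
    have hsq : φ (d⁻¹ * (uH * d * uH⁻¹)) ^ 2 = 1 := by
      rw [show d⁻¹ * (uH * d * uH⁻¹) = d⁻¹ * uH * d * uH⁻¹ by group,
        inv_eq_of_orderOf_eq_two huH2, map_mul, hc'.mul_pow, ← map_pow, ← map_pow,
        ← hz', pow_orderOf_eq_one, hz', ← huH2, pow_orderOf_eq_one, map_one, mul_one]
    have hone : φ (d⁻¹ * (uH * d * uH⁻¹)) = 1 := orderOf_eq_one_iff.mp
      (Nat.eq_one_of_dvd_coprimes hyodd.coprime_two_left (orderOf_dvd_of_pow_eq_one hsq)
        (orderOf_map_dvd φ _))
    rw [map_mul, map_mul, map_mul, map_inv, map_inv, inv_mul_eq_one, eq_mul_inv_iff_mul_eq] at hone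
    rw [Subgroup.mem_comap, hC, mem_centralizer_singleton_iff]
    exact hone
  have hP : Nat.card (D.map φ) =
      Nat.card {w // ∃ v : H, orderOf v = 2 ∧ φ v = w} * Nat.card (D.map φ ⊓ C : Subgroup _) := by
    refine card_eq_conj_mul (D.map φ) (φ uH) _ ?_ ?_
    · rintro _ ⟨d, -, rfl⟩
      exact ⟨d * uH * d⁻¹, by rw [orderOf_conj, huH2], by simp⟩
    · rintro _ ⟨v, hv, rfl⟩
      obtain ⟨d, hd, hdu⟩ := fix_conj hH hz hu (s := u) (t := (v : G))
        (by rw [Subgroup.orderOf_coe]; exact hv) (base_smul_iff.mpr huH) (base_smul_iff.mpr v.2)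
      refine ⟨_, ⟨⟨d, hDle hd⟩, hd, rfl⟩, ?_⟩
      rw [← map_inv, ← map_mul, ← map_mul]
      exact congrArg φ (Subtype.ext hdu)
  have hcount : (C.comap φ).relIndex D = Nat.card {w // ∃ v : H, orderOf v = 2 ∧ φ v = w} := by
    rw [Subgroup.relIndex_comap]
    refine Nat.eq_of_mul_eq_mul_right (m := Nat.card (D.map φ ⊓ C : Subgroup _)) Nat.card_pos ?_
    rw [← hP, ← Subgroup.inf_relIndex_left, relIndex_mul_card inf_le_left]
  have hset : Nat.card (φ '' {v : H | orderOf v = 2}) =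
      Nat.card {w // ∃ v : H, orderOf v = 2 ∧ φ v = w} := Nat.card_congr (Equiv.setCongr rfl)
  have hTD : T.subgroupOf H ≤ D := fun t ht => hT.le ht
  have hdvd' : q ∣ (T.subgroupOf H).relIndex D := by
    refine (hdvd.trans (dvd_of_eq (hset.trans hcount.symm))).trans
      (Subgroup.relIndex_dvd_of_le_left D ?_)
    exact (fun t ht => hYC (hTY ht) : T.subgroupOf H ≤ C.comap φ)
  have hcD : Nat.card D = Nat.card (pair (QuotientGroup.mk 1 : G ⧸ H) z) :=
    Nat.card_congr (Subgroup.subgroupOfEquivOfLe hDle).toEquiv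
  have hcT : Nat.card (T.subgroupOf H) = Nat.card T :=
    Nat.card_congr (Subgroup.subgroupOfEquivOfLe (hTY.trans hYH)).toEquiv
  have hmul := relIndex_mul_card hTD
  rw [hcT, hcD, hT.card] at hmul
  refine Nat.pow_succ_factorization_not_dvd (n := Nat.card (pair (QuotientGroup.mk 1 : G ⧸ H) z))
    Nat.card_pos.ne' (Fact.out : q.Prime) ?_
  rw [pow_succ']
  obtain ⟨c, hc⟩ := hdvd'
  exact ⟨c, hmul.symm.trans (by rw [hc]; ring)⟩

/-- Case (i) of S1220. -/
theorem double_coset_of_commute_mod [Finite G] (hH : Cfsg.IsStronglyEmbedded H) {q : ℕ}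
    [Fact q.Prime] (hq : Odd q) (W : Subgroup H) [W.Normal]
    (hcomm : ∀ u v : H, orderOf u = 2 → orderOf v = 2 →
      Commute (QuotientGroup.mk' W u) (QuotientGroup.mk' W v))
    (hdvd : q ∣ Nat.card (QuotientGroup.mk' W '' {v : H | orderOf v = 2})) :
    ∀ g₁ g₂ : G, g₁ ∉ H → g₂ ∉ H → ∃ h ∈ H, g₂⁻¹ * (h * g₁) ∈ H :=
  double_coset_of_aq hH (aq_of_commute_mod hH hq W hcomm hdvd) hq

end Cfsg.Agent.Coprime.SE
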