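import Cfsg.Agent.Coprime.SE.FreeMax
import Cfsg.Agent.Coprime.SE.Triple
import Cfsg.Agent.Coprime.Action

/-!
An odd subgroup `T` normalised by an involution, such that no involution of its normaliser fixes a
point fixed by `T`: all these involutions are congruent modulo the odd core of the normaliser, they
are fixed point free on its orbits, and a point all of whose partners are swapped with it inside
the normaliser leaves room for two fixed points only.
-/

set_option autoImplicit false
set_option linter.style.haveILetI false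

namespace Cfsg.Agent.Coprime.SE

open Subgroup
open Cfsg.Agent.H39

universe u

/-- An involution central modulo an odd normal subgroup normalises some conjugate of any Sylow
subgroup for an odd prime. -/
theorem exists_conj_sylow_invariant {M : Type*} [Group M] [Finite M] {L : Subgroup M} [L.Normal]
    (hLodd : Odd (Nat.card L)) {w : M} (hw : orderOf w = 2)
    (hcen : ∀ g : M, w * g * w⁻¹ * g⁻¹ ∈ L) {q : ℕ} [Fact q.Prime] (hq : Odd q) (P : Sylow q M) :
    ∃ g : M, w ∈ normalizer
      (((P : Subgroup M).map (MulAut.conj g).toMonoidHom : Subgroup M) : Set M) := by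
  set K : Subgroup M := (P : Subgroup M) ⊔ L with hK
  obtain ⟨n, hn⟩ := IsPGroup.iff_card.mp P.2
  have hKodd : Odd (Nat.card K) := by
    rw [← relIndex_mul_card (le_sup_right : L ≤ K), Subgroup.relIndex_sup_right]
    refine Odd.mul ((hq.pow (n := n)).of_dvd_nat ?_) hLodd
    rw [← hn]
    exact Subgroup.relIndex_dvd_card L _
  have hwK : ∀ k ∈ K, w * k * w⁻¹ ∈ K := fun k hk => by
    have h := mul_mem (le_sup_right (a := (P : Subgroup M)) (hcen k)) hk
    rwa [inv_mul_cancel_right] at h
  have hwN : w ∈ normalizer (K : Set M) := by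
    rw [Subgroup.mem_normalizer_iff]
    refine fun k => ⟨hwK k, fun hk => ?_⟩
    have h := hwK _ hk
    rwa [show w * (w * k * w⁻¹) * w⁻¹ = (w * w) * k * (w * w)⁻¹ by group,
      mul_self_of_orderOf_eq_two hw, one_mul, inv_one, mul_one] at h
  obtain ⟨Q, hQ⟩ := Coprime.exists_invariant_sylow (A := zpowers w) (K := K) (zpowers_le.mpr hwN)
    (by rw [Nat.card_zpowers, hw]; exact hKodd.coprime_two_left) (Or.inl inferInstance) q
  have hPK : IsPGroup q (Q : Subgroup K) := Q.2
  set Q' : Subgroup M := (Q : Subgroup K).map K.subtype with hQ'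
  obtain ⟨R, hR⟩ := (Q.2.map K.subtype : IsPGroup q Q').exists_le_sylow
  have hPle : Nat.card (P : Subgroup M) ≤ Nat.card Q' := by
    obtain ⟨P', hP'⟩ := (P.2.comap_subtype (K := K)).exists_le_sylow
    rw [hQ', card_map_of_injective K.subtype_injective, Q.card_eq_multiplicity,
      ← P'.card_eq_multiplicity]
    refine le_trans (le_of_eq ?_) (Subgroup.card_le_of_le hP')
    exact (Nat.card_congr (Subgroup.subgroupOfEquivOfLe (le_sup_left : _ ≤ K)).toEquiv).symm
  have hReq : Q' = (R : Subgroup M) := by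
    refine Subgroup.eq_of_le_of_card_ge hR ?_
    rw [R.card_eq_multiplicity, ← P.card_eq_multiplicity]
    exact hPle
  obtain ⟨g, hg⟩ := MulAction.exists_smul_eq M P R
  refine ⟨g, ?_⟩
  have h : w ∈ normalizer ((R : Subgroup M) : Set M) := hReq ▸ hQ (mem_zpowers w)
  rw [← hg] at h
  exact h

variable {G : Type u} [Group G] [Finite G] {H : Subgroup G}

/-- `w` normalises the odd subgroup `T`, and no involution of its normaliser fixes one of its fixed
points. -/
structure IsFpfNorm (H : Subgroup G) (T : Subgroup G) (w : G) : Prop where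
  odd : Odd (Nat.card T)
  invol : orderOf w = 2
  norm : w ∈ normalizer (T : Set G)
  moves : ∀ v : G, orderOf v = 2 → v ∈ normalizer (T : Set G) →
    ∀ f : G ⧸ H, Fixed T f → v • f ≠ f

namespace IsFpfNorm

variable {T : Subgroup G} {w : G}

theorem eq_of_commute (hH : Cfsg.IsStronglyEmbedded H) (hS : IsFpfNorm H T w) {u v : G}
    (hu : orderOf u = 2) (hv : orderOf v = 2) (huN : u ∈ normalizer (T : Set G))
    (hvN : v ∈ normalizer (T : Set G)) (hc : Commute u v) : u = v := by
  by_contra huv
  obtain ⟨p, hup⟩ := se_exists_fix hH hu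
  have hvp : v • p = p := se_fix_unique hH hu (by rw [← mul_smul, hc.eq, mul_smul, hup]) hup
  exact hS.moves u hu huN p
    (fun _ hs => Cores.SE.four_odd_fix hH hS.odd hu hv huv hc huN hvN hup hvp hs) hup

/-- All involutions of the normaliser are conjugate to `w` in it, and `w` is central modulo the
odd core. -/
theorem structure_normalizer (hH : Cfsg.IsStronglyEmbedded H) (hS : IsFpfNorm H T w) :
    (∀ v : normalizer (T : Set G), orderOf v = 2 →
      ∃ g : normalizer (T : Set G), g * ⟨w, hS.norm⟩ * g⁻¹ = v) ∧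
    ∀ g : normalizer (T : Set G), (⟨w, hS.norm⟩ : normalizer (T : Set G)) * g *
      (⟨w, hS.norm⟩ : normalizer (T : Set G))⁻¹ * g⁻¹ ∈ Cfsg.oddCore (normalizer (T : Set G)) := by
  set N := normalizer (T : Set G) with hN
  let wN : N := ⟨w, hS.norm⟩
  have hw2 : orderOf wN = 2 := by rw [← Subgroup.orderOf_coe]; exact hS.invol
  have huniq : ∀ u v : N, orderOf u = 2 → orderOf v = 2 → Commute u v → u = v :=
    fun u v hu hv hc => Subtype.ext (hS.eq_of_commute hH (by rwa [Subgroup.orderOf_coe])
      (by rwa [Subgroup.orderOf_coe]) u.2 v.2 (congrArg Subtype.val hc.eq))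
  obtain ⟨P, hP⟩ := (IsPGroup.of_card (G := zpowers wN) (n := 1)
    (by rw [Nat.card_zpowers, hw2, pow_one])).exists_le_sylow
  have hwP : wN ∈ P := hP (mem_zpowers _)
  haveI : Nontrivial (P : Subgroup N) := ⟨⟨⟨wN, hwP⟩, 1, fun h => by
    have h' : wN = 1 := congrArg Subtype.val h
    rw [h', orderOf_one] at hw2
    exact absurd hw2 (by norm_num)⟩⟩
  haveI := P.2.center_nontrivial
  obtain ⟨z, hz⟩ := exists_prime_orderOf_dvd_card' (G := center (P : Subgroup N)) 2 (by
    obtain ⟨n, hn, hcard⟩ := (IsPGroup.nontrivial_iff_card (P.2.to_subgroup (center _))).mp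
      inferInstance
    rw [hcard]
    exact dvd_pow_self 2 hn.ne')
  have hPuniq : ∀ u : N, u ∈ P → orderOf u = 2 → u = ((z : (P : Subgroup N)) : N) :=
    fun u hu hu2 => huniq _ _ hu2 (by rw [Subgroup.orderOf_coe, Subgroup.orderOf_coe, hz])
      (congrArg Subtype.val (mem_center_iff.mp z.2 ⟨u, hu⟩))
  refine ⟨fun v hv => ?_, Cores.glaubermanZStar P hw2 hwP fun g hg =>
    (hPuniq _ hg (by rw [orderOf_conj, hw2])).trans (hPuniq _ hwP hw2).symm⟩
  obtain ⟨Q, hQ⟩ := (IsPGroup.of_card (G := zpowers v) (n := 1)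
    (by rw [Nat.card_zpowers, hv, pow_one])).exists_le_sylow
  obtain ⟨g, hg⟩ := MulAction.exists_smul_eq N Q P
  have hgv : g * v * g⁻¹ = wN := by
    refine (hPuniq _ ?_ (by rw [orderOf_conj, hv])).trans (hPuniq _ hwP hw2).symm
    rw [← hg]
    exact ⟨_, hQ (mem_zpowers _), rfl⟩
  exact ⟨g⁻¹, show g⁻¹ * wN * g⁻¹⁻¹ = v by rw [← hgv]; group⟩

/-- An involution of the normaliser is `w` times an element of the odd core. -/
theorem exists_eq_mul (hH : Cfsg.IsStronglyEmbedded H) (hS : IsFpfNorm H T w) {v : G}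
    (hv : orderOf v = 2) (hvN : v ∈ normalizer (T : Set G)) :
    ∃ l : normalizer (T : Set G), l ∈ Cfsg.oddCore (normalizer (T : Set G)) ∧
      v = w * (l : G) := by
  obtain ⟨hconj, hZ⟩ := hS.structure_normalizer hH
  obtain ⟨g, hg⟩ := hconj ⟨v, hvN⟩ (by rw [← Subgroup.orderOf_coe]; exact hv)
  refine ⟨(⟨w, hS.norm⟩ : normalizer (T : Set G))⁻¹ * ⟨v, hvN⟩, ?_, by simp⟩
  have h := Subgroup.Normal.conj_mem (inferInstance : (Cfsg.oddCore (normalizer (T : Set G))).Normal)
    _ (inv_mem (hZ g)) (⟨w, hS.norm⟩ : normalizer (T : Set G))⁻¹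
  rw [← hg]
  convert h using 1
  group

/-- `w` moves every orbit of the odd core on the points fixed by `T`. -/
theorem smul_orbit_ne (hS : IsFpfNorm H T w) {x : G ⧸ H}
    (hx : Fixed T x) {l : normalizer (T : Set G)}
    (hl : l ∈ Cfsg.oddCore (normalizer (T : Set G))) : (l : G) • x ≠ w • x := by
  intro hlx
  let O : Set (G ⧸ H) := MulAction.orbit (Cfsg.oddCore (normalizer (T : Set G))) x
  have hO : ∀ y ∈ O, w • y ∈ O := by
    rintro _ ⟨m, rfl⟩
    refine ⟨⟨(⟨w, hS.norm⟩ : normalizer (T : Set G)) * m *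
      (⟨w, hS.norm⟩ : normalizer (T : Set G))⁻¹ * l,
      mul_mem (Subgroup.Normal.conj_mem inferInstance _ m.2 _) hl⟩, ?_⟩
    change (w * ((m : normalizer (T : Set G)) : G) * w⁻¹ * (l : G)) • x =
      w • (((m : normalizer (T : Set G)) : G) • x)
    rw [mul_smul, hlx, ← mul_smul]
    simp [mul_smul]
  have hOfix : ∀ y ∈ O, Fixed T y := by
    rintro _ ⟨m, rfl⟩
    exact fixed_smul hx (m : normalizer (T : Set G)).2
  have hodd : Odd (Nat.card O) :=
    (Cores.odd_card_oddCore (G := normalizer (T : Set G))).of_dvd_nat (by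
      haveI := Fintype.ofFinite (Cfsg.oddCore (normalizer (T : Set G)))
      haveI := Fintype.ofFinite O
      haveI := Fintype.ofFinite
        (MulAction.stabilizer (Cfsg.oddCore (normalizer (T : Set G))) x)
      rw [Nat.card_eq_fintype_card, Nat.card_eq_fintype_card,
        ← MulAction.card_orbit_mul_card_stabilizer_eq_card_group
          (Cfsg.oddCore (normalizer (T : Set G))) x]
      exact dvd_mul_right _ _)
  haveI := Fintype.ofFinite O
  classical
  let f : Function.End O := fun y => ⟨w • y.1, hO _ y.2⟩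
  have hf : f ^ 2 ^ 1 = 1 := by
    rw [pow_one, pow_two]
    funext y
    apply Subtype.ext
    change w • w • y.1 = y.1
    rw [← mul_smul, mul_self_of_orderOf_eq_two hS.invol, one_smul]
  have h := Equiv.Perm.card_fixedPoints_modEq (p := 2) hf
  have hempty : Fintype.card f.fixedPoints = 0 := Fintype.card_eq_zero_iff.mpr
    ⟨fun y => hS.moves w hS.invol hS.norm _ (hOfix _ y.1.2) (congrArg Subtype.val y.2)⟩
  rw [hempty, ← Nat.card_eq_fintype_card] at h
  exact absurd h (by rw [Nat.ModEq, Nat.odd_iff.mp hodd]; norm_num)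

/-- If a fixed point of `T` is swapped with all others inside the normaliser, `T` fixes just this
point and its image under `w`. -/
theorem fixed_eq_of_partners (hH : Cfsg.IsStronglyEmbedded H) (hS : IsFpfNorm H T w)
    {a : G ⧸ H} (ha : Fixed T a)
    (h : ∀ z, Fixed T z → z ≠ a →
      ∃ v ∈ normalizer (T : Set G), orderOf v = 2 ∧ v • a = z)
    {z : G ⧸ H} (hz : Fixed T z) : z = a ∨ z = w • a := by
  have key : ∀ z, Fixed T z → z ≠ a → ∃ l : normalizer (T : Set G),
      l ∈ Cfsg.oddCore (normalizer (T : Set G)) ∧ w • (l : G) • a = z := fun z hz hne => by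
    obtain ⟨v, hvN, hv, hva⟩ := h z hz hne
    obtain ⟨l, hl, rfl⟩ := hS.exists_eq_mul hH hv hvN
    exact ⟨l, hl, by rw [← mul_smul, hva]⟩
  have hLa : ∀ l : normalizer (T : Set G), l ∈ Cfsg.oddCore (normalizer (T : Set G)) →
      (l : G) • a = a := by
    intro l hl
    by_contra hne
    obtain ⟨m, hm, hmla⟩ := key _ (fixed_smul ha l.2) hne
    refine hS.smul_orbit_ne (x := (m : G) • a) (fixed_smul ha m.2) (l := l * m⁻¹)
      (mul_mem hl (inv_mem hm)) ?_
    rw [hmla]
    simp [mul_smul]
  rcases eq_or_ne z a with rfl | hne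
  · exact Or.inl rfl
  obtain ⟨l, hl, hlz⟩ := key z hz hne
  rw [hLa l hl] at hlz
  exact Or.inr hlz.symm

/-- A Sylow subgroup for an odd prime of the normaliser fixing exactly two fixed points of `T`
makes them partners. -/
theorem exists_swap_of_sylow (hH : Cfsg.IsStronglyEmbedded H) (hS : IsFpfNorm H T w) {q : ℕ}
    [Fact q.Prime] (hq : Odd q) (P : Sylow q (normalizer (T : Set G))) {x y : G ⧸ H} (hxy : x ≠ y)
    (hx : Fixed T x) (hy : Fixed T y)
    (hP : ∀ z, Fixed T z →
      ((∀ p ∈ (P : Subgroup (normalizer (T : Set G))), (p : G) • z = z) ↔ z = x ∨ z = y)) :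
    ∃ v ∈ normalizer (T : Set G), orderOf v = 2 ∧ v • x = y := by
  let wN : (normalizer (T : Set G)) := ⟨w, hS.norm⟩
  obtain ⟨g, hg⟩ := exists_conj_sylow_invariant (L := Cfsg.oddCore (normalizer (T : Set G))) Cores.odd_card_oddCore
    (w := wN) (by rw [← Subgroup.orderOf_coe]; exact hS.invol)
    (hS.structure_normalizer hH).2 hq P
  -- the points `g • x`, `g • y` are the common fixed points of `T` and the conjugate
  have hgP : ∀ z, Fixed T z → (∀ p ∈ (P : Subgroup (normalizer (T : Set G))).map (MulAut.conj g).toMonoidHom,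
      (p : G) • z = z) → z = (g : G) • x ∨ z = (g : G) • y := by
    intro z hz hfix
    have hz' : Fixed T ((g : G)⁻¹ • z) := fixed_smul hz (inv_mem g.2)
    rcases (hP _ hz').mp (fun p hp => by
      have h1 := hfix _ ⟨p, hp, rfl⟩
      change ((g : G) * (p : G) * (g : G)⁻¹) • z = z at h1
      rw [mul_smul, mul_smul] at h1
      exact (inv_smul_eq_iff.mpr h1.symm).symm) with h | h
    · exact Or.inl (by rw [← h, smul_inv_smul])
    · exact Or.inr (by rw [← h, smul_inv_smul])
  have hfixed : ∀ z, (z = x ∨ z = y) → ∀ p ∈ (P : Subgroup (normalizer (T : Set G))).map (MulAut.conj g).toMonoidHom,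
      (p : G) • (g : G) • z = (g : G) • z := by
    rintro z hzxy _ ⟨p, hp, rfl⟩
    have hz : Fixed T z := by rcases hzxy with rfl | rfl <;> assumption
    change ((g : G) * (p : G) * (g : G)⁻¹) • (g : G) • z = (g : G) • z
    rw [mul_smul, mul_smul, inv_smul_smul, (hP z hz).mpr hzxy p hp]
  have hw : ∀ z, (z = x ∨ z = y) →
      w • (g : G) • z = (g : G) • x ∨ w • (g : G) • z = (g : G) • y := by
    intro z hzxy
    have hz : Fixed T z := by rcases hzxy with rfl | rfl <;> assumption
    refine hgP _ (fixed_smul (fixed_smul hz g.2) hS.norm) fun p hp => ?_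
    have hp' : wN⁻¹ * p * wN ∈ (P : Subgroup (normalizer (T : Set G))).map (MulAut.conj g).toMonoidHom := by
      simpa using (Subgroup.mem_normalizer_iff.mp (inv_mem hg) p).mp hp
    have h := hfixed z hzxy _ hp'
    change (w⁻¹ * (p : G) * w) • (g : G) • z = (g : G) • z at h
    rw [mul_smul, mul_smul, inv_smul_eq_iff] at h
    exact h
  have hswap : w • (g : G) • x = (g : G) • y := (hw x (Or.inl rfl)).resolve_left fun h =>
    hS.moves w hS.invol hS.norm _ (fixed_smul hx g.2) h
  refine ⟨(g : G)⁻¹ * w * (g : G), mul_mem (mul_mem (inv_mem g.2) hS.norm) g.2, ?_, ?_⟩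
  · have := orderOf_conj (g : G)⁻¹ w
    rw [inv_inv] at this
    rw [this, hS.invol]
  · rw [mul_smul, mul_smul, hswap, inv_smul_smul]

end IsFpfNorm

end Cfsg.Agent.Coprime.SE
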