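import Cfsg.Agent.Coprime.SE.Pairs
import Cfsg.Agent.Cores.SE.Point
import Cfsg.Agent.Cores.GlaubermanZStar
import Cfsg.Agent.Cores.PCore

/-!
A free pair Sylow subgroup of maximum order: it fixes exactly the two points of its pair, it is a
Sylow subgroup of the whole group, and the degree is `2` modulo its prime.
-/

set_option autoImplicit false
set_option linter.style.haveILetI false

namespace Cfsg.Agent.Coprime.SE

open Subgroup
open Cfsg.Agent.H39

variable {G : Type*} [Group G] [Finite G] {H : Subgroup G}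

/-- The points fixed by every element of `S`. -/
abbrev Fixed (S : Subgroup G) (x : G ⧸ H) : Prop := ∀ s ∈ S, s • x = x

omit [Finite G] in
theorem fixed_smul {S : Subgroup G} {x : G ⧸ H} (hx : Fixed S x) {g : G}
    (hg : g ∈ normalizer (S : Set G)) : Fixed S (g • x) := fun s hs => by
  have h : g⁻¹ * s * g ∈ S := by
    simpa using (Subgroup.mem_normalizer_iff.mp (inv_mem hg) s).mp hs
  have h2 := hx _ h
  rwa [mul_smul, mul_smul, inv_smul_eq_iff] at h2

/-- `S` is a `q`-subgroup of the stabiliser of `(a, b)` as large as any such in any pair stabiliser,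
and is normalised by a swapper `w` of `(a, b)` whose point it does not fix. -/
structure IsFreeMax (q : ℕ) (S : Subgroup G) (a b : G ⧸ H) (w : G) : Prop where
  ne : a ≠ b
  le : S ≤ pair a b
  pgroup : IsPGroup q S
  max : ∀ x y : G ⧸ H, x ≠ y → ∀ T : Subgroup G, T ≤ pair x y → IsPGroup q T →
    Nat.card T ≤ Nat.card S
  invol : orderOf w = 2
  swap : w • a = b
  norm : w ∈ normalizer (S : Set G)
  free : ∀ c : G ⧸ H, w • c = c → ¬ Fixed S c

namespace IsFreeMax

variable {q : ℕ} {S : Subgroup G} {a b : G ⧸ H} {w : G}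

/-- No involution normalising `S` fixes a point of `S`. -/
theorem invol_moves (hH : Cfsg.IsStronglyEmbedded H) (hS : IsFreeMax q S a b w) {v : G}
    (hv : orderOf v = 2) (hvN : v ∈ normalizer (S : Set G)) {f : G ⧸ H} (hf : Fixed S f) :
    v • f ≠ f := by
  intro hvf
  obtain ⟨c, hwc⟩ := se_exists_fix hH hS.invol
  have hfc : f ≠ c := fun h => hS.free c hwc (h ▸ hf)
  rcases Nat.even_or_odd (orderOf (w * v)) with heven | hodd
  · obtain ⟨i, hi, -, hiv, hiw⟩ := exists_central_involution hv hS.invol heven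
    have hif : i • f = f :=
      se_fix_unique hH hv (by rw [← mul_smul, ← hiv.eq, mul_smul, hvf]) hvf
    have hic : i • c = c :=
      se_fix_unique hH hS.invol (by rw [← mul_smul, ← hiw.eq, mul_smul, hwc]) hwc
    exact hfc (se_fix_unique hH hi hif hic)
  · obtain ⟨k, hk, -, -, hkc⟩ := exists_conj_of_odd hv hS.invol hodd
    have hkN : k ∈ normalizer (S : Set G) := zpowers_le.mpr (mul_mem hS.norm hvN) hk
    refine hS.free (k • f) ?_ (fixed_smul hf hkN)
    rw [← hkc, mul_smul, mul_smul, inv_smul_smul, hvf]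

theorem odd_card (hH : Cfsg.IsStronglyEmbedded H) (hS : IsFreeMax q S a b w) :
    Odd (Nat.card S) := (odd_pair hH hS.ne).of_dvd_nat (card_dvd_of_le hS.le)

omit [Finite G] in
theorem fixed_left (hS : IsFreeMax q S a b w) : Fixed S a := fun _ hs => (hS.le hs).1

omit [Finite G] in
theorem fixed_right (hS : IsFreeMax q S a b w) : Fixed S b := fun _ hs => (hS.le hs).2

/-- The involutions normalising `S` commute only trivially. -/
theorem eq_of_commute (hH : Cfsg.IsStronglyEmbedded H) (hS : IsFreeMax q S a b w) {u v : G}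
    (hu : orderOf u = 2) (hv : orderOf v = 2) (huN : u ∈ normalizer (S : Set G))
    (hvN : v ∈ normalizer (S : Set G)) (hc : Commute u v) : u = v := by
  by_contra huv
  obtain ⟨p, hup⟩ := se_exists_fix hH hu
  have hvp : v • p = p := se_fix_unique hH hu (by rw [← mul_smul, hc.eq, mul_smul, hup]) hup
  exact hS.invol_moves hH hu huN (f := p)
    (fun _ hs => Cores.SE.four_odd_fix hH (hS.odd_card hH) hu hv huv hc huN hvN hup hvp hs) hup

/-- `S` is a Sylow subgroup of the stabiliser of every pair of its fixed points; every such pair is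
swapped by an involution normalising `S`. -/
theorem exists_swap [Fact q.Prime] (hH : Cfsg.IsStronglyEmbedded H) (hS : IsFreeMax q S a b w)
    {x y : G ⧸ H} (hxy : x ≠ y) (hx : Fixed S x) (hy : Fixed S y) :
    ∃ i ∈ normalizer (S : Set G), orderOf i = 2 ∧ i • x = y := by
  set D := pair x y with hD
  have hSD : S ≤ D := fun s hs => mem_pair.mpr ⟨hx s hs, hy s hs⟩
  have hsyl : ∀ T : Subgroup G, T ≤ D → IsPGroup q T → Nat.card T = Nat.card S →
      ∃ R : Sylow q D, (R : Subgroup D).map D.subtype = T := by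
    intro T hT hTq hTc
    obtain ⟨R, hR⟩ := (hTq.comap_subtype (K := D)).exists_le_sylow
    refine ⟨R, (Subgroup.eq_of_le_of_card_ge ?_ ?_).symm⟩
    · intro t ht
      exact ⟨⟨t, hT ht⟩, hR ht, rfl⟩
    · rw [hTc]
      exact hS.max x y hxy _ (map_subtype_le _) (R.2.map _)
  haveI : Nonempty {i : G // orderOf i = 2 ∧ i • x = y} := by
    obtain ⟨t, ht, htH⟩ := se_exists_involution hH
    refine Finite.card_pos_iff.mp ?_
    rw [se_card_swap hH x y]
    exact Finite.card_pos_iff.mpr ⟨⟨t, ht, htH⟩⟩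
  obtain ⟨i, hi, hix⟩ : {i : G // orderOf i = 2 ∧ i • x = y} := Classical.arbitrary _
  have hiy := swap_symm hi hix
  have hT : S.map (MulAut.conj i).toMonoidHom ≤ D := by
    rintro _ ⟨s, hs, rfl⟩
    have hs' := hSD hs
    refine mem_pair.mpr ⟨?_, ?_⟩ <;>
      simp only [MulEquiv.toMonoidHom_eq_coe, MonoidHom.coe_coe, MulAut.conj_apply, mul_smul,
        inv_eq_of_orderOf_eq_two hi, hix, hiy, (mem_pair.mp hs').1, (mem_pair.mp hs').2]
  obtain ⟨R, hR⟩ := hsyl _ hT (hS.pgroup.map _)
    (card_map_of_injective (MulAut.conj i).injective)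
  obtain ⟨R', hR'⟩ := hsyl S hSD hS.pgroup rfl
  obtain ⟨d, hd⟩ := MulAction.exists_smul_eq D R R'
  have hconj : S = S.map (MulAut.conj ((d : G) * i)).toMonoidHom := by
    have h1 : (R' : Subgroup D) = (R : Subgroup D).map (MulAut.conj d).toMonoidHom := by
      rw [← hd]; rfl
    calc S = (R' : Subgroup D).map D.subtype := hR'.symm
      _ = ((R : Subgroup D).map D.subtype).map (MulAut.conj (d : G)).toMonoidHom := by
          rw [h1, Subgroup.map_map, Subgroup.map_map]
          exact congrArg (fun f => Subgroup.map f (R : Subgroup D)) (MonoidHom.ext fun _ => rfl)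
      _ = _ := by
          rw [hR, Subgroup.map_map]
          refine congrArg (fun f => Subgroup.map f S) (MonoidHom.ext fun _ => ?_)
          simp [mul_assoc]
  set g := (d : G) * i with hg
  have hgN : g ∈ normalizer (S : Set G) := by
    rw [Subgroup.mem_normalizer_iff]
    intro s
    conv_rhs => rw [hconj]
    exact (Subgroup.mem_map_iff_mem (f := (MulAut.conj g).toMonoidHom)
      (MulAut.conj g).injective).symm
  have hgx : g • x = y := by rw [hg, mul_smul, hix, (mem_pair.mp d.2).2]
  have hgy : g • y = x := by rw [hg, mul_smul, hiy, (mem_pair.mp d.2).1]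
  have hg2 : g * g ∈ D := mem_pair.mpr ⟨by rw [mul_smul, hgx, hgy], by rw [mul_smul, hgy, hgx]⟩
  obtain ⟨k, hk⟩ := odd_orderOf_of_mem_pair hH hxy hg2
  have hsq : g ^ (2 * k + 1) * g ^ (2 * k + 1) = 1 := by
    rw [← pow_add, show (2 * k + 1) + (2 * k + 1) = 2 * (2 * k + 1) by ring, pow_mul, ← hk, pow_two,
      pow_orderOf_eq_one]
  have hsmul : g ^ (2 * k + 1) • x = y := by
    have hkD : (g * g) ^ k ∈ D := pow_mem hg2 k
    rw [pow_succ', pow_mul, pow_two, mul_smul, (mem_pair.mp hkD).1, hgx]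
  exact ⟨g ^ (2 * k + 1), pow_mem hgN _, orderOf_eq_two_of_mul_self hsq fun h => hxy (by
    rw [h, one_smul] at hsmul; exact hsmul), hsmul⟩

/-- THEOREM I: `S` fixes exactly `a` and `b`. -/
theorem fixed_eq [Fact q.Prime] (hH : Cfsg.IsStronglyEmbedded H) (hS : IsFreeMax q S a b w)
    {x : G ⧸ H} (hx : Fixed S x) : x = a ∨ x = b := by
  set N := normalizer (S : Set G) with hN
  let wN : N := ⟨w, hS.norm⟩
  have hw2 : orderOf wN = 2 := by rw [← Subgroup.orderOf_coe]; exact hS.invol
  have huniq : ∀ u v : N, orderOf u = 2 → orderOf v = 2 → Commute u v → u = v := fun u v hu hv hc =>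
    Subtype.ext (hS.eq_of_commute hH (by rwa [Subgroup.orderOf_coe])
      (by rwa [Subgroup.orderOf_coe]) u.2 v.2 (congrArg Subtype.val hc.eq))
  obtain ⟨P, hP⟩ := (IsPGroup.of_card (G := zpowers wN) (n := 1)
    (by rw [Nat.card_zpowers, hw2, pow_one])).exists_le_sylow
  have hwP : wN ∈ P := hP (mem_zpowers _)
  haveI : Nontrivial (P : Subgroup N) := ⟨⟨⟨wN, hwP⟩, 1, fun h => by
    have h' : wN = 1 := congrArg Subtype.val h
    rw [h', orderOf_one] at hw2
    exact absurd hw2 (by norm_num)⟩⟩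
  haveI := P.2.center_nontrivial
  obtain ⟨z, hz⟩ := exists_prime_orderOf_dvd_card' (G := center (P : Subgroup N)) 2 (by
    obtain ⟨n, hn, hcard⟩ := (IsPGroup.nontrivial_iff_card (P.2.to_subgroup (center _))).mp
      inferInstance
    rw [hcard]
    exact dvd_pow_self 2 hn.ne')
  have hPuniq : ∀ u : N, u ∈ P → orderOf u = 2 → u = ((z : (P : Subgroup N)) : N) := fun u hu hu2 =>
    huniq _ _ hu2 (by rw [Subgroup.orderOf_coe, Subgroup.orderOf_coe, hz])
      (congrArg Subtype.val (mem_center_iff.mp z.2 ⟨u, hu⟩))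
  have hiso : ∀ g : N, g * wN * g⁻¹ ∈ P → g * wN * g⁻¹ = wN := fun g hg =>
    (hPuniq _ hg (by rw [orderOf_conj, hw2])).trans (hPuniq _ hwP hw2).symm
  have hZ := Cores.glaubermanZStar P hw2 hwP hiso
  -- the odd core is trivial on the fixed points
  have hL : ∀ l : N, l ∈ Cfsg.oddCore N → ∀ x : G ⧸ H, Fixed S x → (l : G) • x = x := by
    intro l hl x hx
    by_contra hne
    obtain ⟨i, hiN, hi, hix⟩ := hS.exists_swap hH (Ne.symm hne) hx (fixed_smul hx l.2)
    haveI : (Cfsg.oddCore N).Normal := inferInstance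
    let O : Set (G ⧸ H) := MulAction.orbit (Cfsg.oddCore N) x
    have hO : ∀ y ∈ O, i • y ∈ O := by
      rintro _ ⟨m, rfl⟩
      refine ⟨⟨(⟨i, hiN⟩ : N) * m * (⟨i, hiN⟩ : N)⁻¹ * l,
        mul_mem (Subgroup.Normal.conj_mem inferInstance _ m.2 _) hl⟩, ?_⟩
      change (i * ((m : N) : G) * i⁻¹ * (l : G)) • x = i • (((m : N) : G) • x)
      rw [mul_smul, ← hix, ← mul_smul]
      simp [mul_smul]
    have hOfix : ∀ y ∈ O, Fixed S y := by
      rintro _ ⟨m, rfl⟩
      exact fixed_smul hx (m : N).2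
    have hodd : Odd (Nat.card O) := (Cores.odd_card_oddCore (G := N)).of_dvd_nat (by
      haveI := Fintype.ofFinite (Cfsg.oddCore N)
      haveI := Fintype.ofFinite O
      haveI := Fintype.ofFinite (MulAction.stabilizer (Cfsg.oddCore N) x)
      rw [Nat.card_eq_fintype_card, Nat.card_eq_fintype_card,
        ← MulAction.card_orbit_mul_card_stabilizer_eq_card_group (Cfsg.oddCore N) x]
      exact dvd_mul_right _ _)
    haveI := Fintype.ofFinite O
    classical
    let f : Function.End O := fun y => ⟨i • y.1, hO _ y.2⟩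
    have hf : f ^ 2 ^ 1 = 1 := by
      rw [pow_one, pow_two]
      funext y
      apply Subtype.ext
      change i • i • y.1 = y.1
      rw [← mul_smul, mul_self_of_orderOf_eq_two hi, one_smul]
    have h := Equiv.Perm.card_fixedPoints_modEq (p := 2) hf
    have hempty : Fintype.card f.fixedPoints = 0 := Fintype.card_eq_zero_iff.mpr
      ⟨fun y => hS.invol_moves hH hi hiN (hOfix _ y.1.2) (congrArg Subtype.val y.2)⟩
    rw [hempty, ← Nat.card_eq_fintype_card] at h
    exact absurd h (by rw [Nat.ModEq, Nat.odd_iff.mp hodd]; norm_num)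
  -- all involutions of the normaliser act alike on the fixed points
  by_contra! hne
  obtain ⟨i, hiN, hi, hia⟩ := hS.exists_swap hH hne.1.symm hS.fixed_left hx
  have hi2 : orderOf (⟨i, hiN⟩ : N) = 2 := by rw [← Subgroup.orderOf_coe]; exact hi
  obtain ⟨Q, hQ⟩ := (IsPGroup.of_card (G := zpowers (⟨i, hiN⟩ : N)) (n := 1)
    (by rw [Nat.card_zpowers, hi2, pow_one])).exists_le_sylow
  obtain ⟨g, hg⟩ := MulAction.exists_smul_eq N Q P
  have hgi : g * ⟨i, hiN⟩ * g⁻¹ = wN := by
    refine (hPuniq _ ?_ (by rw [orderOf_conj, hi2])).trans (hPuniq _ hwP hw2).symm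
    rw [← hg]
    exact ⟨_, hQ (mem_zpowers _), rfl⟩
  have hgi' : i = (g : G)⁻¹ * w * g := by
    have h : (g : G) * i * (g : G)⁻¹ = w := congrArg Subtype.val hgi
    rw [← h]; group
  have hcomm : w • (g : G) • a = (g : G) • w • a := by
    have hfix := hL _ (hZ g) ((g : G) • b) (fixed_smul hS.fixed_right g.2)
    calc w • (g : G) • a = (w * g * w⁻¹ * (g : G)⁻¹) • (g : G) • w • a := by simp [mul_smul]
      _ = (g : G) • w • a := by rw [hS.swap]; exact hfix
  apply hne.2
  rw [← hia, hgi', mul_smul, mul_smul, hcomm, inv_smul_smul, hS.swap]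

theorem prime_odd [Fact q.Prime] (hH : Cfsg.IsStronglyEmbedded H) (hS : IsFreeMax q S a b w) :
    Odd q := by
  obtain ⟨n, hn⟩ := IsPGroup.iff_card.mp hS.pgroup
  rcases Nat.eq_zero_or_pos n with rfl | hpos
  · obtain ⟨c, hc⟩ := se_exists_fix hH hS.invol
    refine absurd ?_ (hS.free c hc)
    have hbot : S = ⊥ := Subgroup.card_eq_one.mp (by rw [hn, pow_zero])
    intro s hs
    rw [hbot, Subgroup.mem_bot] at hs
    rw [hs, one_smul]
  · exact (hS.odd_card hH).of_dvd_nat (hn ▸ dvd_pow_self q hpos.ne')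

/-- THEOREM I: `S` is a Sylow subgroup of `G`. -/
theorem eq_of_le [Fact q.Prime] (hH : Cfsg.IsStronglyEmbedded H) (hS : IsFreeMax q S a b w)
    {T : Subgroup G} (hT : IsPGroup q T) (hST : S ≤ T) : T = S := by
  by_contra hne
  haveI := hT.isNilpotent
  have hlt : S.subgroupOf T < ⊤ :=
    lt_top_iff_ne_top.mpr fun h => hne (le_antisymm (subgroupOf_eq_top.mp h) hST)
  obtain ⟨g, hgN, hgS⟩ := SetLike.exists_of_lt (Group.normalizerCondition_of_isNilpotent _ hlt)
  have hgN' : (g : G) ∈ normalizer (S : Set G) := by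
    rw [Subgroup.mem_normalizer_iff]
    intro s
    constructor
    · intro hs
      exact mem_subgroupOf.mp
        ((Subgroup.mem_normalizer_iff.mp hgN ⟨s, hST hs⟩).mp (mem_subgroupOf.mpr hs))
    · intro hs
      have hsT : s ∈ T := by
        have h := mul_mem (mul_mem (inv_mem g.2) (hST hs)) g.2
        simpa [mul_assoc] using h
      exact (Subgroup.mem_normalizer_iff.mp hgN ⟨s, hsT⟩).mpr (by simpa [mem_subgroupOf] using hs)
  have hga : (g : G) • a = a := by
    rcases hS.fixed_eq hH (fixed_smul hS.fixed_left hgN') with h | h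
    · exact h
    have hgb : (g : G) • b = a := (hS.fixed_eq hH (fixed_smul hS.fixed_right hgN')).resolve_right
      fun h' => hS.ne (MulAction.injective (g : G) (h.trans h'.symm))
    exfalso
    obtain ⟨n, hn⟩ := hT g
    obtain ⟨k, hk⟩ := (hS.prime_odd hH).pow (n := n)
    have hk1 : (g : G) ^ (2 * k + 1) = 1 := by rw [← hk]; exact congrArg Subtype.val hn
    have hfix : (g : G) ^ (2 * k) • a = a := by
      have : (g : G) ^ 2 ∈ MulAction.stabilizer G a := by
        rw [MulAction.mem_stabilizer_iff, pow_two, mul_smul, h, hgb]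
      rw [pow_mul]; exact pow_mem this k
    rw [pow_succ'] at hk1
    exact hS.ne (by rw [← h, ← hfix, ← mul_smul, hk1, one_smul, hfix])
  have hgb : (g : G) • b = b := (hS.fixed_eq hH (fixed_smul hS.fixed_right hgN')).resolve_left
    fun h' => hS.ne (MulAction.injective (g : G) (hga.trans h'.symm))
  have hle : S ⊔ zpowers (g : G) ≤ pair a b :=
    sup_le hS.le (zpowers_le.mpr (mem_pair.mpr ⟨hga, hgb⟩))
  have hcard := hS.max a b hS.ne _ hle (hT.to_le (sup_le hST (zpowers_le.mpr g.2)))
  exact hgS ((Subgroup.eq_of_le_of_card_ge le_sup_left hcard).symm ▸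
    mem_sup_right (mem_zpowers (g : G)))

/-- THEOREM I: the degree is `2` modulo the prime. -/
theorem card_modEq [Fact q.Prime] (hH : Cfsg.IsStronglyEmbedded H) (hS : IsFreeMax q S a b w) :
    Nat.card (G ⧸ H) ≡ 2 [MOD q] := by
  have h := hS.pgroup.card_modEq_card_fixedPoints (G ⧸ H)
  have hset : MulAction.fixedPoints S (G ⧸ H) = {a, b} := by
    ext x
    exact ⟨fun hx => hS.fixed_eq hH fun s hs => hx ⟨s, hs⟩, by
      rintro (rfl | rfl) ⟨s, hs⟩
      · exact hS.fixed_left s hs
      · exact hS.fixed_right s hs⟩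
  rwa [hset, Nat.card_coe_set_eq, Set.ncard_pair hS.ne] at h

end IsFreeMax

end Cfsg.Agent.Coprime.SE
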