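import Cfsg.Agent.Coprime.SE.CaseOne

/-!
Section 2 of the Bender programme: without B-elements `(A_q)` holds for every odd prime dividing the
number of involutions of `H`, so `H` is transitive on the other cosets.
-/

set_option autoImplicit false
set_option linter.style.haveILetI false

namespace Cfsg.Agent.Coprime.SE

open Subgroup
open Cfsg.Agent.H39

variable {G : Type*} [Group G] {H : Subgroup G}

/-- (GOOD): no non-trivial element inverted by an involution fixes the point of the involution and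
another point. -/
def Good (H : Subgroup G) : Prop :=
  ∀ u : G, orderOf u = 2 → ∀ c : G ⧸ H, u • c = c → ∀ j : G, j ≠ 1 → u * j * u⁻¹ = j⁻¹ →
    j • c = c → ∀ x : G ⧸ H, x ≠ c → j • x ≠ x

/-- A1: a group normalised by `u` fixing the point of `u` and another point is centralised by `u`. -/
theorem Good.commute (hG : Good H) {u : G} (hu : orderOf u = 2) {c : G ⧸ H} (huc : u • c = c)
    {Y : Subgroup G} (huY : u ∈ normalizer (Y : Set G)) {x : G ⧸ H} (hxc : x ≠ c)
    (hYc : Fixed Y c) (hYx : Fixed Y x) {y : G} (hy : y ∈ Y) : Commute u y := by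
  have hd : y⁻¹ * (u * y * u⁻¹) ∈ Y :=
    mul_mem (inv_mem hy) ((Subgroup.mem_normalizer_iff.mp huY y).mp hy)
  by_contra h
  refine hG u hu c huc _ (fun h1 => h ?_) ?_ (hYc _ hd) x hxc (hYx _ hd)
  · rw [inv_mul_eq_one, eq_mul_inv_iff_mul_eq] at h1
    exact h1.symm
  · simp only [inv_eq_of_orderOf_eq_two hu, mul_inv_rev, inv_inv, mul_assoc,
      mul_self_of_orderOf_eq_two hu, mul_one]

/-- GOOD gives `(A_q)` for every prime `q` dividing the number of involutions of `H`. -/
theorem aq_of_good [Finite G] (hH : Cfsg.IsStronglyEmbedded H) (hG : Good H) {q : ℕ}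
    [Fact q.Prime] (hdvd : q ∣ Nat.card {t : G // orderOf t = 2 ∧ t ∈ H}) : Aq q H := by
  rintro u hu e hue Y hY hYe huY ⟨x, hex, hYx⟩ z hez T hT hTY
  have hle : T ≤ pair e z ⊓ centralizer {u} := fun t ht => ⟨hT.le ht,
    mem_centralizer_singleton_iff.mpr (hG.commute hu hue huY hex.symm hYe hYx (hTY ht)).eq.symm⟩
  have hcard := card_eq_conj_mul (pair e z) u (fun v => orderOf v = 2 ∧ v • e = e)
    (fun d hd => ⟨by rw [orderOf_conj, hu],
      by rw [mul_smul, mul_smul, inv_smul_eq_iff.mpr hd.1.symm, hue, hd.1]⟩)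
    (fun v hv => fix_conj hH hez hu hv.1 hue hv.2)
  rw [se_card_fix] at hcard
  have h : q * Nat.card T ∣ Nat.card (pair e z) := by
    rw [hcard]; exact mul_dvd_mul hdvd (card_dvd_of_le hle)
  rw [hT.card, ← pow_succ'] at h
  exact Nat.pow_succ_factorization_not_dvd Nat.card_pos.ne' (Fact.out : q.Prime) h

/-- GOOD implies double transitivity, given an odd prime divisor of the number of involutions of
`H`. -/
theorem double_coset_of_good [Finite G] (hH : Cfsg.IsStronglyEmbedded H) (hG : Good H) {q : ℕ}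
    [Fact q.Prime] (hq : Odd q) (hdvd : q ∣ Nat.card {t : G // orderOf t = 2 ∧ t ∈ H}) :
    ∀ g₁ g₂ : G, g₁ ∉ H → g₂ ∉ H → ∃ h ∈ H, g₂⁻¹ * (h * g₁) ∈ H :=
  double_coset_of_aq hH (aq_of_good hH hG hdvd) hq

end Cfsg.Agent.Coprime.SE
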