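import Cfsg.Agent.Coprime.SE.Pairs

/-!
Sylow subgroups of pair stabilisers: existence, transport, and the swapper normalising one of them.
-/

set_option autoImplicit false
set_option linter.style.haveILetI false

namespace Cfsg.Agent.Coprime.SE

open Subgroup
open Cfsg.Agent.H39

variable {G : Type*} [Group G] {H : Subgroup G}

/-- `T` is a Sylow `q`-subgroup of the stabiliser of the pair `(a, b)`. -/
structure IsPairSylow (q : ℕ) (T : Subgroup G) (a b : G ⧸ H) : Prop where
  le : T ≤ pair a b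
  card : Nat.card T = ordProj[q] (Nat.card (pair a b))

theorem IsPairSylow.isPGroup {q : ℕ} {T : Subgroup G} {a b : G ⧸ H} (hT : IsPairSylow q T a b) :
    IsPGroup q T := IsPGroup.of_card hT.card

theorem IsPairSylow.symm {q : ℕ} {T : Subgroup G} {a b : G ⧸ H} (hT : IsPairSylow q T a b) :
    IsPairSylow q T b a := by
  have h : pair b a = pair a b := inf_comm _ _
  exact ⟨h ▸ hT.le, h ▸ hT.card⟩

variable [Finite G] {q : ℕ} [Fact q.Prime]

theorem exists_pairSylow {a b : G ⧸ H} {P : Subgroup G} (hP : P ≤ pair a b) (hq : IsPGroup q P) :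
    ∃ S : Subgroup G, IsPairSylow q S a b ∧ P ≤ S := by
  obtain ⟨R, hR⟩ := (hq.comap_subtype (K := pair a b)).exists_le_sylow
  refine ⟨(R : Subgroup (pair a b)).map (pair a b).subtype, ⟨map_subtype_le _, ?_⟩,
    fun p hp => ⟨⟨p, hP hp⟩, hR hp, rfl⟩⟩
  rw [card_map_of_injective (pair a b).subtype_injective, R.card_eq_multiplicity]

theorem IsPairSylow.card_le {T : Subgroup G} {a b : G ⧸ H} (hT : IsPairSylow q T a b)
    {P : Subgroup G} (hP : P ≤ pair a b) (hq : IsPGroup q P) : Nat.card P ≤ Nat.card T := by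
  obtain ⟨S, hS, hPS⟩ := exists_pairSylow hP hq
  rw [hT.card, ← hS.card]
  exact Subgroup.card_le_of_le hPS

/-- Some swapper of the pair normalises a given Sylow subgroup of its stabiliser. -/
theorem IsPairSylow.exists_swap (hH : Cfsg.IsStronglyEmbedded H) {T : Subgroup G} {x y : G ⧸ H}
    (hT : IsPairSylow q T x y) (hxy : x ≠ y) :
    ∃ i ∈ normalizer (T : Set G), orderOf i = 2 ∧ i • x = y := by
  set D := pair x y with hD
  have hsyl : ∀ U : Subgroup G, U ≤ D → IsPGroup q U → Nat.card U = Nat.card T →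
      ∃ R : Sylow q D, (R : Subgroup D).map D.subtype = U := by
    intro U hU hUq hUc
    obtain ⟨R, hR⟩ := (hUq.comap_subtype (K := D)).exists_le_sylow
    refine ⟨R, (Subgroup.eq_of_le_of_card_ge ?_ ?_).symm⟩
    · intro t ht
      exact ⟨⟨t, hU ht⟩, hR ht, rfl⟩
    · rw [hUc]
      exact hT.card_le (map_subtype_le _) (R.2.map _)
  haveI : Nonempty {i : G // orderOf i = 2 ∧ i • x = y} := by
    obtain ⟨t, ht, htH⟩ := se_exists_involution hH
    refine Finite.card_pos_iff.mp ?_
    rw [se_card_swap hH x y]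
    exact Finite.card_pos_iff.mpr ⟨⟨t, ht, htH⟩⟩
  obtain ⟨i, hi, hix⟩ : {i : G // orderOf i = 2 ∧ i • x = y} := Classical.arbitrary _
  have hiy := swap_symm hi hix
  have hU : T.map (MulAut.conj i).toMonoidHom ≤ D := by
    rintro _ ⟨s, hs, rfl⟩
    have hs' := hT.le hs
    refine mem_pair.mpr ⟨?_, ?_⟩ <;>
      simp only [MulEquiv.toMonoidHom_eq_coe, MonoidHom.coe_coe, MulAut.conj_apply, mul_smul,
        inv_eq_of_orderOf_eq_two hi, hix, hiy, (mem_pair.mp hs').1, (mem_pair.mp hs').2]
  obtain ⟨R, hR⟩ := hsyl _ hU (hT.isPGroup.map _)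
    (card_map_of_injective (MulAut.conj i).injective)
  obtain ⟨R', hR'⟩ := hsyl T hT.le hT.isPGroup rfl
  obtain ⟨d, hd⟩ := MulAction.exists_smul_eq D R R'
  have hconj : T = T.map (MulAut.conj ((d : G) * i)).toMonoidHom := by
    have h1 : (R' : Subgroup D) = (R : Subgroup D).map (MulAut.conj d).toMonoidHom := by
      rw [← hd]; rfl
    calc T = (R' : Subgroup D).map D.subtype := hR'.symm
      _ = ((R : Subgroup D).map D.subtype).map (MulAut.conj (d : G)).toMonoidHom := by
          rw [h1, Subgroup.map_map, Subgroup.map_map]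
          exact congrArg (fun f => Subgroup.map f (R : Subgroup D)) (MonoidHom.ext fun _ => rfl)
      _ = _ := by
          rw [hR, Subgroup.map_map]
          refine congrArg (fun f => Subgroup.map f T) (MonoidHom.ext fun _ => ?_)
          simp [mul_assoc]
  set g := (d : G) * i with hg
  have hgN : g ∈ normalizer (T : Set G) := by
    rw [Subgroup.mem_normalizer_iff]
    intro s
    conv_rhs => rw [hconj]
    exact (Subgroup.mem_map_iff_mem (f := (MulAut.conj g).toMonoidHom)
      (MulAut.conj g).injective).symm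
  have hgx : g • x = y := by rw [hg, mul_smul, hix, (mem_pair.mp d.2).2]
  have hgy : g • y = x := by rw [hg, mul_smul, hiy, (mem_pair.mp d.2).1]
  have hg2 : g * g ∈ D := mem_pair.mpr ⟨by rw [mul_smul, hgx, hgy], by rw [mul_smul, hgy, hgx]⟩
  obtain ⟨k, hk⟩ := odd_orderOf_of_mem_pair hH hxy hg2
  have hsq : g ^ (2 * k + 1) * g ^ (2 * k + 1) = 1 := by
    rw [← pow_add, show (2 * k + 1) + (2 * k + 1) = 2 * (2 * k + 1) by ring, pow_mul, ← hk, pow_two,
      pow_orderOf_eq_one]
  have hsmul : g ^ (2 * k + 1) • x = y := by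
    have hkD : (g * g) ^ k ∈ D := pow_mem hg2 k
    rw [pow_succ', pow_mul, pow_two, mul_smul, (mem_pair.mp hkD).1, hgx]
  exact ⟨g ^ (2 * k + 1), pow_mem hgN _, orderOf_eq_two_of_mul_self hsq fun h => hxy (by
    rw [h, one_smul] at hsmul; exact hsmul), hsmul⟩

omit [Fact q.Prime] in
/-- L0 for pair Sylow subgroups: fixing the point of a swapper makes one a Sylow subgroup of the
shifted pair. -/
theorem IsPairSylow.shift (hH : Cfsg.IsStronglyEmbedded H) {T : Subgroup G} {a b c : G ⧸ H}
    (hT : IsPairSylow q T a b) (hab : a ≠ b) {u : G} (hu : orderOf u = 2) (hua : u • a = b)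
    (huc : u • c = c) (hc : ∀ t ∈ T, t • c = c) : IsPairSylow q T c a :=
  ⟨fun t ht => mem_pair.mpr ⟨hc t ht, (hT.le ht).1⟩, by
    rw [← card_pair_eq hH hab hu hua huc, hT.card]⟩

end Cfsg.Agent.Coprime.SE
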