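import Cfsg.Agent.Coprime.SE.PairSylow
import Cfsg.Agent.Coprime.SE.FpfNorm

/-!
THEOREM A: if, for one odd prime `q`, no involution normalises a `q`-subgroup of the stabiliser of
its point that fixes a further point and contains a Sylow subgroup of a pair stabiliser at that point,
then the action on the
cosets of the strongly embedded subgroup is doubly transitive.
-/

set_option autoImplicit false
set_option linter.style.haveILetI false

namespace Cfsg.Agent.Coprime.SE

open Subgroup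
open Cfsg.Agent.H39

variable {G : Type*} [Group G] {H : Subgroup G}

/-- The hypothesis `(A_q)`. -/
def Aq (q : ℕ) (H : Subgroup G) : Prop :=
  ∀ u : G, orderOf u = 2 → ∀ e : G ⧸ H, u • e = e → ∀ Y : Subgroup G, IsPGroup q Y → Fixed Y e →
    u ∈ normalizer (Y : Set G) → (∃ x : G ⧸ H, e ≠ x ∧ Fixed Y x) →
      ∀ z : G ⧸ H, e ≠ z → ∀ T : Subgroup G, IsPairSylow q T e z → ¬ T ≤ Y

/-- An element of odd order preserving a pair fixes it. -/
theorem fix_of_preserves {g : G} (hg : Odd (orderOf g)) {a b : G ⧸ H} (hab : a ≠ b)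
    (ha : g • a = a ∨ g • a = b) (hb : g • b = a ∨ g • b = b) : g • a = a ∧ g • b = b := by
  rcases ha with ha | ha
  · exact ⟨ha, hb.resolve_left fun h => hab (MulAction.injective g (ha.trans h.symm))⟩
  have hba : g • b = a := hb.resolve_right fun h => hab (MulAction.injective g (ha.trans h.symm))
  exfalso
  obtain ⟨j, hj⟩ := hg
  have h2 : g ^ 2 ∈ MulAction.stabilizer G a := by
    rw [MulAction.mem_stabilizer_iff, pow_two, mul_smul, ha, hba]
  have h3 : g ∈ MulAction.stabilizer G a := by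
    have hpow := pow_mem h2 (j + 1)
    rwa [← pow_mul, show 2 * (j + 1) = (2 * j + 1) + 1 by ring, pow_succ, ← hj, pow_orderOf_eq_one,
      one_mul] at hpow
  exact hab (ha ▸ (MulAction.mem_stabilizer_iff.mp h3).symm)

variable [Finite G] {q : ℕ} [Fact q.Prime]

omit [Finite G] [Fact q.Prime] in
theorem odd_orderOf_of_isPGroup (hq : Odd q) {P : Subgroup G} (hP : IsPGroup q P) {g : G}
    (hg : g ∈ P) : Odd (orderOf g) := by
  obtain ⟨n, hn⟩ := hP ⟨g, hg⟩
  exact (hq.pow (n := n)).of_dvd_nat (orderOf_dvd_of_pow_eq_one (congrArg Subtype.val hn))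

/-- A pair Sylow subgroup with no further fixed point is a Sylow subgroup of `G`. -/
theorem IsPairSylow.card_eq_of_two_fixed (hq : Odd q) {T : Subgroup G} {a b : G ⧸ H}
    (hT : IsPairSylow q T a b) (hab : a ≠ b) (h2 : ∀ z, Fixed T z → z = a ∨ z = b) :
    Nat.card T = ordProj[q] (Nat.card G) := by
  obtain ⟨P, hP⟩ := hT.isPGroup.exists_le_sylow
  rcases eq_or_lt_of_le hP with heq | hlt
  · rw [heq]; exact P.card_eq_multiplicity
  exfalso
  obtain ⟨x, hxP, hxT, hxN⟩ := exists_mem_normalizer_not_mem P.2 hlt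
  have hTa : Fixed T a := fun t ht => (hT.le ht).1
  have hTb : Fixed T b := fun t ht => (hT.le ht).2
  obtain ⟨hxa, hxb⟩ := fix_of_preserves (odd_orderOf_of_isPGroup hq P.2 hxP) hab
    (h2 _ (fixed_smul hTa hxN)) (h2 _ (fixed_smul hTb hxN))
  have hle : T ⊔ zpowers x ≤ pair a b := sup_le hT.le (zpowers_le.mpr (mem_pair.mpr ⟨hxa, hxb⟩))
  have hc := hT.card_le hle (P.2.to_le (sup_le hP (zpowers_le.mpr hxP)))
  exact hxT ((Subgroup.eq_of_le_of_card_ge le_sup_left hc).symm ▸ mem_sup_right (mem_zpowers x))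

/-- If `R₀ > Y` fixes `(a, z)` and normalises `Y`, and no such group fixes a further fixed point of
`Y`, then a Sylow subgroup of the normaliser of `Y` has exactly `a, z` as fixed points among those
of `Y`. -/
theorem exists_sylow_normalizer_fixed (hq : Odd q) {Y R₀ : Subgroup G} {a z : G ⧸ H} (haz : a ≠ z)
    (hR₀ : IsPGroup q R₀) (hR₀N : R₀ ≤ normalizer (Y : Set G))
    (hR₀az : R₀ ≤ pair a z)
    (hclaim : ∀ R : Subgroup G, R₀ ≤ R → IsPGroup q R → R ≤ pair a z →
      ∀ u, Fixed R u → u = a ∨ u = z) :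
    ∃ P : Sylow q (normalizer (Y : Set G)), ∀ u, Fixed Y u →
      ((∀ p ∈ (P : Subgroup (normalizer (Y : Set G))), (p : G) • u = u) ↔ u = a ∨ u = z) := by
  haveI := Fintype.ofFinite (Subgroup G)
  classical
  obtain ⟨R, hR, hmax⟩ := Finset.exists_max_image
    (Finset.univ.filter fun R : Subgroup G => R₀ ≤ R ∧ IsPGroup q R ∧ R ≤ pair a z ∧
      R ≤ normalizer (Y : Set G))
    (fun R => Nat.card R) ⟨R₀, Finset.mem_filter.mpr ⟨Finset.mem_univ _, le_rfl, hR₀, hR₀az, hR₀N⟩⟩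
  simp only [Finset.mem_filter, Finset.mem_univ, true_and] at hR hmax
  obtain ⟨hR₀R, hRq, hRaz, hRN⟩ := hR
  obtain ⟨P, hP⟩ := (hRq.comap_subtype (K := normalizer (Y : Set G))).exists_le_sylow
  set P' : Subgroup G :=
    (P : Subgroup (normalizer (Y : Set G))).map (normalizer (Y : Set G)).subtype with hP'
  have hRP : R ≤ P' := fun r hr => ⟨⟨r, hRN hr⟩, hP hr, rfl⟩
  have hP'q : IsPGroup q P' := P.2.map _
  have heq : R = P' := by
    rcases eq_or_lt_of_le hRP with heq | hlt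
    · exact heq
    exfalso
    obtain ⟨y, hyP, hyR, hyN⟩ := exists_mem_normalizer_not_mem hP'q hlt
    have hRa : Fixed R a := fun t ht => (hRaz ht).1
    have hRz : Fixed R z := fun t ht => (hRaz ht).2
    obtain ⟨hya, hyz⟩ := fix_of_preserves (odd_orderOf_of_isPGroup hq hP'q hyP) haz
      (hclaim R hR₀R hRq hRaz _ (fixed_smul hRa hyN))
      (hclaim R hR₀R hRq hRaz _ (fixed_smul hRz hyN))
    have hc := hmax (R ⊔ zpowers y) ⟨hR₀R.trans le_sup_left,
      hP'q.to_le (sup_le hRP (zpowers_le.mpr hyP)),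
      sup_le hRaz (zpowers_le.mpr (mem_pair.mpr ⟨hya, hyz⟩)),
      sup_le hRN (zpowers_le.mpr (map_subtype_le _ hyP))⟩
    exact hyR ((Subgroup.eq_of_le_of_card_ge le_sup_left hc).symm ▸ mem_sup_right (mem_zpowers y))
  refine ⟨P, fun u _ => ⟨fun h => hclaim R hR₀R hRq hRaz u ?_, ?_⟩⟩
  · rw [heq]
    rintro _ ⟨p, hp, rfl⟩
    exact h p hp
  · intro hu p hp
    have hpR : (p : G) ∈ R := heq ▸ ⟨p, hp, rfl⟩
    rcases hu with rfl | rfl
    · exact (hRaz hpR).1
    · exact (hRaz hpR).2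

omit [Fact q.Prime] in
/-- The condition `(A_q)` makes the point of a normalising swapper free. -/
theorem not_fixed_of_aq (hH : Cfsg.IsStronglyEmbedded H) (hA : Aq q H) {T : Subgroup G}
    {a b c : G ⧸ H} (hT : IsPairSylow q T a b) (hab : a ≠ b) {w : G} (hw : orderOf w = 2)
    (hwa : w • a = b) (hwN : w ∈ normalizer (T : Set G)) (hwc : w • c = c) : ¬ Fixed T c :=
  fun h =>
    have hca : c ≠ a := fun hca => hab (by rw [← hwa, ← hca, hwc])
    hA w hw c hwc T hT.isPGroup h hwN ⟨a, hca, fun t ht => (hT.le ht).1⟩ a hca T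
      (hT.shift hH hab hw hwa hwc h) le_rfl

omit [Fact q.Prime] in
/-- No involution normalising a pair Sylow subgroup fixes one of its fixed points. -/
theorem isFpfNorm_of_aq (hH : Cfsg.IsStronglyEmbedded H) (hA : Aq q H) {T : Subgroup G}
    {a b : G ⧸ H} (hT : IsPairSylow q T a b) (hab : a ≠ b) {w : G} (hw : orderOf w = 2)
    (hwa : w • a = b) (hwN : w ∈ normalizer (T : Set G)) : IsFpfNorm H T w := by
  refine ⟨(odd_pair hH hab).of_dvd_nat (card_dvd_of_le hT.le), hw, hwN, fun v hv hvN f hf hvf => ?_⟩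
  obtain ⟨c, hwc⟩ := se_exists_fix hH hw
  have hfree := fun x hx => not_fixed_of_aq hH hA hT hab hw hwa hwN (c := x) hx
  have hfc : f ≠ c := fun h => hfree c hwc (h ▸ hf)
  rcases Nat.even_or_odd (orderOf (w * v)) with heven | hodd
  · obtain ⟨i, hi, -, hiv, hiw⟩ := exists_central_involution hv hw heven
    have hif : i • f = f :=
      se_fix_unique hH hv (by rw [← mul_smul, ← hiv.eq, mul_smul, hvf]) hvf
    have hic : i • c = c :=
      se_fix_unique hH hw (by rw [← mul_smul, ← hiw.eq, mul_smul, hwc]) hwc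
    exact hfc (se_fix_unique hH hi hif hic)
  · obtain ⟨k, hk, -, -, hkc⟩ := exists_conj_of_odd hv hw hodd
    have hkN : k ∈ normalizer (T : Set G) := zpowers_le.mpr (mul_mem hwN hvN) hk
    refine hfree (k • f) ?_ (fixed_smul hf hkN)
    rw [← hkc, mul_smul, mul_smul, inv_smul_smul, hvf]

/-- The CLAIM of step 2: if all larger pair Sylow subgroups fix just their pair, then no `q`-group
properly containing `T` fixes `a` and two further points. -/
theorem eq_of_fixed_of_lt (hH : Cfsg.IsStronglyEmbedded H) (hA : Aq q H) (hq : Odd q)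
    {T : Subgroup G} {a b : G ⧸ H} (hT : IsPairSylow q T a b) (hab : a ≠ b)
    (hIH : ∀ x y : G ⧸ H, x ≠ y → ∀ S : Subgroup G, IsPairSylow q S x y →
      Nat.card T < Nat.card S → ∀ u, Fixed S u → u = x ∨ u = y)
    {Y : Subgroup G} (hTY : T < Y) (hY : IsPGroup q Y) (hYa : Fixed Y a) {x y : G ⧸ H}
    (hxa : x ≠ a) (hya : y ≠ a) (hYx : Fixed Y x) (hYy : Fixed Y y) : x = y := by
  by_contra hxy
  haveI := Fintype.ofFinite (Subgroup G)
  classical
  obtain ⟨W, hW, hmax⟩ := Finset.exists_max_image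
    (Finset.univ.filter fun W : Subgroup G => T < W ∧ IsPGroup q W ∧ Fixed W a ∧
      ∃ u v, u ≠ a ∧ v ≠ a ∧ u ≠ v ∧ Fixed W u ∧ Fixed W v)
    (fun W => Nat.card W) ⟨Y, by
      simp only [Finset.mem_filter, Finset.mem_univ, true_and]
      exact ⟨hTY, hY, hYa, x, y, hxa, hya, hxy, hYx, hYy⟩⟩
  simp only [Finset.mem_filter, Finset.mem_univ, true_and] at hW hmax
  obtain ⟨hTW, hWq, hWa, u₀, v₀, hu₀a, hv₀a, huv, hu₀, hv₀⟩ := hW
  set N := normalizer (W : Set G) with hN
  have hbig : ∀ R : Subgroup G, W < R → IsPGroup q R → Fixed R a → ∀ u v : G ⧸ H,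
      u ≠ a → v ≠ a → Fixed R u → Fixed R v → u = v := by
    intro R hWR hRq hRa u v hu hv hRu hRv
    by_contra h
    exact hWR.ne (Subgroup.eq_of_le_of_card_ge hWR.le
      (hmax R ⟨hTW.trans hWR, hRq, hRa, u, v, hu, hv, h, hRu, hRv⟩))
  have hTWcard : Nat.card T < Nat.card W := by
    refine lt_of_le_of_ne (Subgroup.card_le_of_le hTW.le) fun h => hTW.ne ?_
    exact Subgroup.eq_of_le_of_card_ge hTW.le h.ge
  -- every pair of fixed points of `W` has a larger Sylow subgroup, growing in the normaliser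
  have hgrow : ∀ u v : G ⧸ H, u ≠ v → Fixed W u → Fixed W v → ∃ R : Subgroup G,
      W < R ∧ IsPGroup q R ∧ R ≤ N ∧ R ≤ pair u v := by
    intro u v huv' hu hv
    obtain ⟨S, hS, hWS⟩ := exists_pairSylow (fun g hg => mem_pair.mpr ⟨hu g hg, hv g hg⟩) hWq
    rcases eq_or_lt_of_le hWS with heq | hlt
    · exfalso
      have h2 := hIH u v huv' S hS (lt_of_lt_of_le hTWcard (Subgroup.card_le_of_le hWS))
      subst heq
      rcases h2 a hWa with h | h <;> rcases h2 u₀ hu₀ with h' | h' <;>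
        rcases h2 v₀ hv₀ with h'' | h'' <;> subst_vars <;>
        first | exact huv rfl | exact hu₀a rfl | exact hv₀a rfl
    · obtain ⟨g, hgS, hgW, hgN⟩ := exists_mem_normalizer_not_mem hS.isPGroup hlt
      refine ⟨W ⊔ zpowers g, lt_of_le_of_ne le_sup_left fun h => hgW ?_,
        hS.isPGroup.to_le (sup_le hWS (zpowers_le.mpr hgS)),
        sup_le le_normalizer (zpowers_le.mpr hgN),
        (sup_le hWS (zpowers_le.mpr hgS)).trans hS.le⟩
      exact h.symm ▸ mem_sup_right (mem_zpowers g)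
  have hsyl : ∀ z : G ⧸ H, Fixed W z → z ≠ a → ∃ P : Sylow q N, ∀ u, Fixed W u →
      ((∀ p ∈ (P : Subgroup N), (p : G) • u = u) ↔ u = a ∨ u = z) := by
    intro z hz hza
    obtain ⟨R, hWR, hRq, hRN, hRaz⟩ := hgrow a z hza.symm hWa hz
    refine exists_sylow_normalizer_fixed hq hza.symm hRq hRN hRaz fun R' hRR' hR'q hR' u hu => ?_
    by_contra! h
    exact h.2 (hbig R' (lt_of_lt_of_le hWR hRR') hR'q (fun g hg => (hR' hg).1) u z h.1 hza hu
      fun g hg => (hR' hg).2)
  by_cases hfix : ∀ g ∈ N, g • a = a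
  · obtain ⟨R, hWR, hRq, hRN, hR⟩ := hgrow u₀ v₀ huv hu₀ hv₀
    exact huv (hbig R hWR hRq (fun g hg => hfix g (hRN hg)) u₀ v₀ hu₀a hv₀a
      (fun g hg => (hR hg).1) fun g hg => (hR hg).2)
  push Not at hfix
  obtain ⟨g₀, hg₀, hg₀a⟩ := hfix
  have hz₀ : Fixed W (g₀ • a) := fixed_smul hWa hg₀
  obtain ⟨P₀, hP₀⟩ := hsyl _ hz₀ hg₀a
  have htrans : ∀ z : G ⧸ H, Fixed W z → ∃ n ∈ N, n • a = z := by
    intro z hz
    rcases eq_or_ne z a with rfl | hza
    · exact ⟨1, one_mem _, one_smul _ _⟩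
    obtain ⟨P, hP⟩ := hsyl z hz hza
    obtain ⟨n, hn⟩ := MulAction.exists_smul_eq N P₀ P
    have hmap : ∀ u, Fixed W u → (u = a ∨ u = g₀ • a) → (n : G) • u = a ∨ (n : G) • u = z := by
      intro u hu hu'
      refine (hP _ (fixed_smul hu n.2)).mp fun p hp => ?_
      rw [← hn] at hp
      obtain ⟨p₀, hp₀, rfl⟩ := hp
      change ((n : G) * (p₀ : G) * (n : G)⁻¹) • (n : G) • u = (n : G) • u
      rw [mul_smul, mul_smul, inv_smul_smul, (hP₀ u hu).mpr hu' p₀ hp₀]
    rcases hmap a hWa (Or.inl rfl) with h | h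
    · rcases hmap _ hz₀ (Or.inr rfl) with h' | h'
      · exact absurd (MulAction.injective (n : G) (h'.trans h.symm)) hg₀a
      · exact ⟨n * g₀, mul_mem n.2 hg₀, by rw [mul_smul, h']⟩
    · exact ⟨n, n.2, h⟩
  by_cases hinv : ∃ v ∈ N, orderOf v = 2
  · obtain ⟨v, hvN, hv⟩ := hinv
    have hF : IsFpfNorm H W v := by
      refine ⟨(odd_pair hH hu₀a).of_dvd_nat
        (card_dvd_of_le fun g hg => mem_pair.mpr ⟨hu₀ g hg, hWa g hg⟩), hv, hvN,
        fun v' hv' hv'N f hf hv'f => ?_⟩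
      obtain ⟨n, hn, hna⟩ := htrans f hf
      have ho : orderOf (n⁻¹ * v' * n) = 2 := by
        have := orderOf_conj n⁻¹ v'
        rw [inv_inv] at this
        rw [this, hv']
      refine hA _ ho a ?_ W hWq hWa (mul_mem (mul_mem (inv_mem hn) hv'N) hn) ⟨u₀, hu₀a.symm, hu₀⟩
        b hab T hT hTW.le
      rw [mul_smul, mul_smul, hna, hv'f, ← hna, inv_smul_smul]
    have hpart : ∀ z, Fixed W z → z ≠ a →
        ∃ i ∈ normalizer (W : Set G), orderOf i = 2 ∧ i • a = z := by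
      intro z hz hza
      obtain ⟨P, hP⟩ := hsyl z hz hza
      exact hF.exists_swap_of_sylow hH hq P hza.symm hWa hz hP
    exact huv (((hF.fixed_eq_of_partners hH hWa hpart hu₀).resolve_left hu₀a).trans
      ((hF.fixed_eq_of_partners hH hWa hpart hv₀).resolve_left hv₀a).symm)
  push Not at hinv
  have hoddN : ∀ g : N, Odd (orderOf (g : G)) := by
    intro g
    by_contra h
    rw [Nat.not_odd_iff_even, even_iff_two_dvd, Subgroup.orderOf_coe] at h
    obtain ⟨i, hi⟩ := exists_prime_orderOf_dvd_card' (G := N) 2 (h.trans (orderOf_dvd_natCard g))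
    exact hinv i i.2 (by rw [Subgroup.orderOf_coe, hi])
  set K := MulAction.stabilizer N (g₀ • a) with hK
  let n₀ : N := ⟨g₀, hg₀⟩
  have h1 : (P₀ : Subgroup N) ≤ K := fun p hp => (hP₀ _ hz₀).mpr (Or.inr rfl) p hp
  have h2 : ((n₀ • P₀ : Sylow q N) : Subgroup N) ≤ K := by
    rintro _ ⟨p, hp, rfl⟩
    change (g₀ * (p : G) * g₀⁻¹) • g₀ • a = g₀ • a
    rw [mul_smul, mul_smul, inv_smul_smul, (hP₀ _ hWa).mpr (Or.inl rfl) p hp]
  obtain ⟨h, hh⟩ := MulAction.exists_smul_eq K ((n₀ • P₀).subtype h2) (P₀.subtype h1)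
  have hh' : ((h : N) * n₀) • P₀ = P₀ := by
    rw [Sylow.smul_subtype] at hh
    rw [mul_smul]
    exact Sylow.subtype_injective hh
  set m : N := (h : N) * n₀ with hm
  have hma : (m : G) • a = g₀ • a := by
    change (((h : N) : G) * g₀) • a = g₀ • a
    rw [mul_smul]
    exact h.2
  have hmap : ∀ u, Fixed W u → (u = a ∨ u = g₀ • a) → (m : G) • u = a ∨ (m : G) • u = g₀ • a := by
    intro u hu hu'
    refine (hP₀ _ (fixed_smul hu m.2)).mp fun p hp => ?_
    have hp' : p ∈ ((m • P₀ : Sylow q N) : Subgroup N) := hh'.symm ▸ hp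
    obtain ⟨p₀, hp₀, rfl⟩ := hp'
    change ((m : G) * (p₀ : G) * (m : G)⁻¹) • (m : G) • u = (m : G) • u
    rw [mul_smul, mul_smul, inv_smul_smul, (hP₀ u hu).mpr hu' p₀ hp₀]
  obtain ⟨hfa, -⟩ := fix_of_preserves (hoddN m) hg₀a.symm (Or.inr hma) (hmap _ hz₀ (Or.inr rfl))
  exact hg₀a (hma.symm.trans hfa)

/-- Every pair Sylow subgroup fixes just its pair. -/
theorem fixed_eq_of_aq (hH : Cfsg.IsStronglyEmbedded H) (hA : Aq q H) (hq : Odd q)
    {T : Subgroup G} {a b : G ⧸ H} (hT : IsPairSylow q T a b) (hab : a ≠ b) {z : G ⧸ H}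
    (hz : Fixed T z) : z = a ∨ z = b := by
  suffices key : ∀ n, ∀ T : Subgroup G, Nat.card G - Nat.card T = n → ∀ a b : G ⧸ H, a ≠ b →
      IsPairSylow q T a b → ∀ z, Fixed T z → z = a ∨ z = b from key _ T rfl a b hab hT z hz
  clear hz hT hab T a b z
  intro n
  induction n using Nat.strong_induction_on with
  | _ n ih =>
  intro T hn a b hab hT z hz
  have hIH : ∀ x y : G ⧸ H, x ≠ y → ∀ S : Subgroup G, IsPairSylow q S x y →
      Nat.card T < Nat.card S → ∀ u, Fixed S u → u = x ∨ u = y := fun x y hxy S hS hlt =>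
    ih _ (by have := Subgroup.card_le_card_group S; omega) S rfl x y hxy hS
  obtain ⟨w, hwN, hw, hwa⟩ := hT.exists_swap hH hab
  have hF := isFpfNorm_of_aq hH hA hT hab hw hwa hwN
  have hTa : Fixed T a := fun t ht => (hT.le ht).1
  rw [← hwa]
  refine hF.fixed_eq_of_partners hH hTa (fun z hz hza => ?_) hz
  obtain ⟨S, hS, hTS⟩ := exists_pairSylow (fun g hg => mem_pair.mpr ⟨hTa g hg, hz g hg⟩) hT.isPGroup
  rcases eq_or_lt_of_le hTS with heq | hlt
  · subst heq
    exact hS.exists_swap hH hza.symm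
  obtain ⟨g, hgS, hgT, hgN⟩ := exists_mem_normalizer_not_mem hS.isPGroup hlt
  have hR₀lt : T < T ⊔ zpowers g :=
    lt_of_le_of_ne le_sup_left fun h => hgT (h.symm ▸ mem_sup_right (mem_zpowers g))
  obtain ⟨P, hP⟩ := exists_sylow_normalizer_fixed hq hza.symm
    (hS.isPGroup.to_le (sup_le hTS (zpowers_le.mpr hgS)))
    (sup_le le_normalizer (zpowers_le.mpr hgN))
    ((sup_le hTS (zpowers_le.mpr hgS)).trans hS.le) fun R hR hRq hRaz u hu => by
      by_contra! h
      exact h.2 (eq_of_fixed_of_lt hH hA hq hT hab hIH (lt_of_lt_of_le hR₀lt hR) hRq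
        (fun r hr => (hRaz hr).1) h.1 hza hu fun r hr => (hRaz hr).2)
  exact hF.exists_swap_of_sylow hH hq P hza.symm hTa hz hP

/-- THEOREM A: `(A_q)` implies that `H` is transitive on the other points. -/
theorem exists_smul_eq_of_aq (hH : Cfsg.IsStronglyEmbedded H) (hA : Aq q H) (hq : Odd q)
    {a b b' : G ⧸ H} (hb : a ≠ b) (hb' : a ≠ b') : ∃ g : G, g • a = a ∧ g • b = b' := by
  obtain ⟨S, hS, -⟩ := exists_pairSylow (q := q) (H := H) (a := a) (b := b) (P := ⊥) bot_le (IsPGroup.of_bot)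
  obtain ⟨S', hS', -⟩ :=
    exists_pairSylow (q := q) (H := H) (a := a) (b := b') (P := ⊥) bot_le (IsPGroup.of_bot)
  have h1 := hS.card_eq_of_two_fixed hq hb fun z hz => fixed_eq_of_aq hH hA hq hS hb hz
  have h2 := hS'.card_eq_of_two_fixed hq hb' fun z hz => fixed_eq_of_aq hH hA hq hS' hb' hz
  obtain ⟨g, hg⟩ := MulAction.exists_smul_eq G (Sylow.ofCard S h1) (Sylow.ofCard S' h2)
  have hmap : ∀ u, (u = a ∨ u = b) → g • u = a ∨ g • u = b' := by
    intro u hu
    refine fixed_eq_of_aq hH hA hq hS' hb' fun s hs => ?_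
    have hs' : s ∈ ((g • Sylow.ofCard S h1 : Sylow q G) : Subgroup G) := hg.symm ▸ hs
    obtain ⟨s₀, hs₀, rfl⟩ := hs'
    change (g * s₀ * g⁻¹) • g • u = g • u
    rw [mul_smul, mul_smul, inv_smul_smul]
    rcases hu with rfl | rfl
    · rw [(hS.le hs₀).1]
    · rw [(hS.le hs₀).2]
  rcases hmap a (Or.inl rfl) with hga | hga
  · exact ⟨g, hga, (hmap b (Or.inr rfl)).resolve_left
      fun h => hb (MulAction.injective g (hga.trans h.symm))⟩
  · have hgb : g • b = a := (hmap b (Or.inr rfl)).resolve_right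
      fun h => hb (MulAction.injective g (hga.trans h.symm))
    obtain ⟨i, -, hi, hia⟩ := hS'.exists_swap hH hb'
    exact ⟨i * g, by rw [mul_smul, hga, swap_symm hi hia], by rw [mul_smul, hgb, hia]⟩

/-- THEOREM A, as double transitivity on cosets: the first alternative of Bender's dichotomy. -/
theorem double_coset_of_aq (hH : Cfsg.IsStronglyEmbedded H) (hA : Aq q H) (hq : Odd q) :
    ∀ g₁ g₂ : G, g₁ ∉ H → g₂ ∉ H → ∃ h ∈ H, g₂⁻¹ * (h * g₁) ∈ H := by
  intro g₁ g₂ h1 h2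
  have hne : ∀ g : G, g ∉ H → (QuotientGroup.mk 1 : G ⧸ H) ≠ QuotientGroup.mk g := fun g hg h =>
    hg (by simpa using QuotientGroup.eq.mp h)
  obtain ⟨g, hga, hgb⟩ := exists_smul_eq_of_aq hH hA hq (hne g₁ h1) (hne g₂ h2)
  rw [MulAction.Quotient.smul_mk, QuotientGroup.eq, smul_eq_mul, mul_one, mul_one] at hga
  rw [MulAction.Quotient.smul_mk, QuotientGroup.eq, smul_eq_mul] at hgb
  refine ⟨g, by simpa using inv_mem hga, ?_⟩
  simpa [mul_assoc] using inv_mem hgb

end Cfsg.Agent.Coprime.SE
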