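import Cfsg.Agent.Coprime.SE.PairSylow
import Cfsg.Agent.Coprime.SE.FpfNorm
import Cfsg.Agent.Coprime.Action

/-!
THEOREM 1 of the Bender programme: a maximal `p`-group normalised by an involution whose point it
fixes along with a further point has involutions at two points in its normaliser.
-/

set_option autoImplicit false
set_option linter.style.haveILetI false

namespace Cfsg.Agent.Coprime.SE

open Subgroup
open Cfsg.Agent.H39

variable {G : Type*} [Group G] {H : Subgroup G}

/-- The family `Y_p`: non-trivial `p`-groups normalised by an involution whose point they fix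
together with another point (so with at least three points). -/
structure IsBound (p : ℕ) (H : Subgroup G) (P : Subgroup G) : Prop where
  ne_bot : P ≠ ⊥
  pgroup : IsPGroup p P
  witness : ∃ t : G, orderOf t = 2 ∧ t ∈ normalizer (P : Set G) ∧
    ∃ c b : G ⧸ H, t • c = c ∧ b ≠ c ∧ Fixed P c ∧ Fixed P b

/-- `P` is a maximal member of the family. -/
structure IsMaxBound (p : ℕ) (H : Subgroup G) (P : Subgroup G) : Prop extends IsBound p H P where
  maximal : ∀ Q : Subgroup G, P < Q → ¬ IsBound p H Q

variable [Finite G] {p : ℕ} [Fact p.Prime]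

omit [Fact p.Prime] in
/-- Every member of the family lies in a maximal one. -/
theorem IsBound.exists_le_max {P : Subgroup G} (hP : IsBound p H P) :
    ∃ Q : Subgroup G, P ≤ Q ∧ IsMaxBound p H Q := by
  obtain ⟨Q, ⟨hPQ, hQ⟩, hmax⟩ := Set.Finite.exists_maximalFor id
    {Q : Subgroup G | P ≤ Q ∧ IsBound p H Q} (Set.toFinite _) ⟨P, le_rfl, hP⟩
  exact ⟨Q, hPQ, hQ, fun R hQR hR => hQR.not_ge (hmax ⟨hPQ.trans hQR.le, hR⟩ hQR.le)⟩

/-- THEOREM 1: the involutions normalising a maximal member have at least two points. -/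
theorem IsMaxBound.exists_other (hH : Cfsg.IsStronglyEmbedded H) {P : Subgroup G}
    (hP : IsMaxBound p H P) {c : G ⧸ H} :
    ∃ v ∈ normalizer (P : Set G), orderOf v = 2 ∧ v • c ≠ c := by
  by_contra! hall
  obtain ⟨t, ht, htN, c', b, htc', hbc', hPc', hPb⟩ := hP.witness
  have hcc : c' = c := se_fix_unique hH ht htc' (hall t htN ht)
  rw [hcc] at htc' hbc' hPc'
  have htb : t • b ≠ b := fun h => hbc' (se_fix_unique hH ht h htc')
  have hPtb : Fixed P (t • b) := fixed_smul hPb htN
  have htD : t ∈ normalizer ((pair b (t • b) : Subgroup G) : Set G) := by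
    rw [Subgroup.mem_normalizer_iff]
    intro g
    simp only [mem_pair, mul_smul, inv_eq_of_orderOf_eq_two ht, swap_symm ht rfl]
    constructor <;> rintro ⟨h1, h2⟩
    · exact ⟨by rw [h2, swap_symm ht rfl], by rw [h1]⟩
    · exact ⟨MulAction.injective t h2, MulAction.injective t (h1.trans (swap_symm ht rfl).symm)⟩
  obtain ⟨R, hPR, htR⟩ := Coprime.exists_invariant_sylow_ge (A := zpowers t) (K := pair b (t • b))
    (zpowers_le.mpr htD) (by
      rw [Nat.card_zpowers, ht]; exact (odd_pair hH htb.symm).coprime_two_left)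
    (Or.inl inferInstance) p (fun g hg => mem_pair.mpr ⟨hPb g hg, hPtb g hg⟩) hP.pgroup
    (zpowers_le.mpr htN)
  set R' : Subgroup G := (R : Subgroup (pair b (t • b))).map (pair b (t • b)).subtype with hR'
  have hR'D : R' ≤ pair b (t • b) := map_subtype_le _
  -- the normaliser fixes `c`
  have hNc : ∀ g ∈ normalizer (P : Set G), g • c = c := by
    intro g hg
    have h := hall (g * t * g⁻¹) (mul_mem (mul_mem hg htN) (inv_mem hg)) (by rw [orderOf_conj, ht])
    rw [mul_smul, mul_smul, ← eq_inv_smul_iff] at h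
    exact (inv_smul_eq_iff.mp (se_fix_unique hH ht h htc')).symm
  have hPR' : P = R' := by
    rcases eq_or_lt_of_le hPR with h | hlt
    · exact h
    exfalso
    have hlt' : P < R' ⊓ normalizer (P : Set G) := by
      obtain ⟨x, hxR, hxP, hxN⟩ := exists_mem_normalizer_not_mem (R.2.map _) hlt
      exact lt_of_le_of_ne (le_inf hPR le_normalizer) fun h => hxP (h.symm ▸ ⟨hxR, hxN⟩)
    refine hP.maximal _ hlt' ⟨fun h => ?_, (R.2.map _).to_le inf_le_left, t, ht, ?_, c, b,
      htc', hbc', fun g hg => hNc g hg.2, fun g hg => (hR'D hg.1).1⟩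
    · exact hP.ne_bot (le_bot_iff.mp (hlt'.le.trans h.le))
    · rw [Subgroup.mem_normalizer_iff]
      intro g
      rw [mem_inf, mem_inf]
      exact and_congr (Subgroup.mem_normalizer_iff.mp (htR (mem_zpowers t)) g)
        (Subgroup.mem_normalizer_iff.mp (le_normalizer htN) g)
  have hsyl : IsPairSylow p P b (t • b) := by
    refine ⟨hPR'.le.trans hR'D, ?_⟩
    rw [hPR', hR', card_map_of_injective (pair b (t • b)).subtype_injective, R.card_eq_multiplicity]
  obtain ⟨i, hiN, hi, hic⟩ := (hsyl.shift hH htb.symm ht rfl htc' hPc').exists_swap hH hbc'.symm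
  exact hbc' (hic.symm.trans (hall i hiN hi))

end Cfsg.Agent.Coprime.SE
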